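import Cfsg.Agent.H903.Ore.Large
import Cfsg.Agent.KFacts.Baby.CaseM
import Cfsg.Agent.KFacts.Baby.RowB
import Cfsg.Agent.Schreier.CoTwoStab

/-!
# The Baby Monster: commutators in the centralizer of a 2B involution (S2443, helper903)

`C(z) = 2^(1+22).Co₂`.  If every `l ≠ 1` in `Co₂` is `[a, b]` with an element of order 23 in `⟨a, b⟩` (`OreF23`), then
every element of `C(z)` is a commutator (`cent_B`); the same for the 2-elements of `Co₂` gives that every 2-element of the
Baby Monster is a commutator (`two_B`).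
-/

set_option autoImplicit false

namespace Cfsg.Agent.H903.Ore.Baby

open Cfsg Cfsg.Agent.BabyM Cfsg.Agent.BabyM.Model Cfsg.Agent.BabyU.ClosModel Cfsg.Agent.BabyU.ClosLane
open Cfsg.Agent.H777.Ore Cfsg.Agent.H903.Ore.Large

universe u

/-- `l` is a commutator of two elements generating a group with an element of order 23 -/
def F23 {L : Type*} [Group L] (l : L) : Prop :=
  ∃ a b : L, l = a * b * a⁻¹ * b⁻¹ ∧ ∃ y ∈ Subgroup.closure ({a, b} : Set L), orderOf y = 23

theorem F23.of_dvd {L : Type*} [Group L] [Finite L] {l a b : L} (e : l = a * b * a⁻¹ * b⁻¹)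
    (h : 23 ∣ Nat.card (Subgroup.closure ({a, b} : Set L))) : F23 l := by
  have : Fact (Nat.Prime 23) := ⟨by norm_num⟩
  obtain ⟨y, hy⟩ := exists_prime_orderOf_dvd_card' 23 h
  exact ⟨a, b, e, y, y.2, by rw [Subgroup.orderOf_coe, hy]⟩

theorem F23.map {L L' : Type*} [Group L] [Group L'] (f : L ≃* L') {l : L} (h : F23 l) : F23 (f l) := by
  obtain ⟨a, b, e, y, hy, hyr⟩ := h
  refine ⟨f a, f b, by rw [e]; simp only [map_mul, map_inv], f y, ?_, by rw [MulEquiv.orderOf_eq, hyr]⟩
  have h1 : f y ∈ (Subgroup.closure ({a, b} : Set L)).map f.toMonoidHom := ⟨y, hy, rfl⟩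
  rw [MonoidHom.map_closure, Set.image_pair] at h1
  exact h1

theorem F23.conj {L : Type*} [Group L] {l : L} (h : F23 l) (x : L) : F23 (x * l * x⁻¹) :=
  F23.map (MulAut.conj x) h

/-- every nontrivial element of `Co₂` -/
def OreF23 : Prop := ∀ l : Spor.Co2, l ≠ 1 → F23 l

/-- every nontrivial 2-element of `Co₂` -/
def OreF23Two : Prop := ∀ l : Spor.Co2, l ≠ 1 → (∃ k : ℕ, orderOf l = 2 ^ k) → F23 l

theorem OreF23.two (h : OreF23) : OreF23Two := fun l h1 _ => h l h1

/-! ### The model -/

theorem exists_y : ∃ y : GroupInst.K₀, orderOf y = 23 := by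
  have : Fact (Nat.Prime 23) := ⟨by norm_num⟩
  have : Finite GroupInst.K₀ := Nat.finite_of_card_ne_zero (by rw [A.grp.card]; norm_num)
  exact exists_prime_orderOf_dvd_card' 23 (by rw [A.grp.card]; norm_num)

theorem card_PP' : Nat.card (PP Inst.M) = 2 ^ (22 + 1) := KFacts.Baby.CaseM.card_PP

/-- **The elements of `C(z)`**, for the model. -/
theorem cent_model (hO : OreF23) (g : Inst.M.G) (hg : g * zz A = zz A * g) : IsC g := by
  have := A.finite_G
  obtain ⟨π, hs, hk⟩ := KFacts.Baby.Inst.quot A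
  obtain ⟨e⟩ := Cfsg.Agent.Schreier.CoTwoStab.exists_equiv _ GroupInst.dt_l₀
  refine isC_cent (KFacts.Baby.Inst.large A) hs hk (r := 23) (n := 22) (by norm_num) (by decide) card_PP' (by norm_num)
    ar_23_22 exists_y ⟨g, Subgroup.mem_centralizer_singleton_iff.2 hg⟩ fun h1 => ?_
  have h2 := F23.map e.symm (hO (e (π ⟨g, Subgroup.mem_centralizer_singleton_iff.2 hg⟩)) fun h => h1 (e.injective (by
    rw [h, map_one])))
  rwa [e.symm_apply_apply] at h2

/-- **The 2-elements**, for the model. -/
theorem two_model (hO : OreF23Two) {g : Inst.M.G} (hg : ∃ k : ℕ, orderOf g = 2 ^ k) : IsC g := by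
  have := A.finite_G
  obtain ⟨π, hs, hk⟩ := KFacts.Baby.Inst.quot A
  obtain ⟨e⟩ := Cfsg.Agent.Schreier.CoTwoStab.exists_equiv _ GroupInst.dt_l₀
  refine isC_two (KFacts.Baby.Inst.large A) hs hk (r := 23) (n := 22) (by norm_num) (by decide) card_PP' (by norm_num)
    ar_23_22 exists_y (KFacts.Baby.Inst.odd_index A) (fun l h1 h2 => ?_) hg
  have h3 := F23.map e.symm (hO (e l) (fun h => h1 (e.injective (by rw [h, map_one]))) (by
    obtain ⟨k, hk⟩ := h2
    exact ⟨k, by rw [MulEquiv.orderOf_eq, hk]⟩))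
  rwa [e.symm_apply_apply] at h3

/-! ### The Baby Monster -/

section

variable {G : Type u} [Group G]

/-- **Every 2-element of the Baby Monster is a commutator.** -/
theorem two_B (h : Spor.IsoB G) (hO : OreF23Two) {g : G} (hg : ∃ k : ℕ, orderOf g = 2 ^ k) : IsC g := by
  obtain ⟨f⟩ := KFacts.Baby.RowB.exists_iso h
  have h1 : IsC (f.symm g) := two_model hO (by
    obtain ⟨k, hk⟩ := hg
    exact ⟨k, by rw [MulEquiv.orderOf_eq, hk]⟩)
  have h2 := h1.map f.toMonoidHom
  change IsC (f (f.symm g)) at h2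
  rwa [f.apply_symm_apply] at h2

/-- **Every element of the centralizer of a 2B involution is a commutator.** -/
theorem cent_B (h : Spor.IsoB G) (hO : OreF23) : ∃ z : G, orderOf z = 2 ∧
    Nat.card (Subgroup.centralizer ({z} : Set G)) = 2 ^ 23 * 42305421312000 ∧ ∀ g : G, g * z = z * g → IsC g := by
  obtain ⟨f⟩ := KFacts.Baby.RowB.exists_iso h
  have := A.finite_G
  have hz : orderOf (zz A) = 2 := orderOf_eq_prime (by rw [pow_two]; exact z_sq A) (z_ne A)
  refine ⟨f (zz A), by rw [MulEquiv.orderOf_eq, hz], ?_, fun g hg => ?_⟩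
  · have h1 : (Subgroup.centralizer ({zz A} : Set Inst.M.G)).map f.toMonoidHom =
        Subgroup.centralizer ({f (zz A)} : Set G) := by
      ext y
      rw [Subgroup.mem_map, Subgroup.mem_centralizer_singleton_iff]
      constructor
      · rintro ⟨x, hx, rfl⟩
        rw [Subgroup.mem_centralizer_singleton_iff] at hx
        show f x * f (zz A) = f (zz A) * f x
        rw [← map_mul, hx, map_mul]
      · intro hy
        refine ⟨f.symm y, Subgroup.mem_centralizer_singleton_iff.2 (f.injective ?_), f.apply_symm_apply y⟩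
        rw [map_mul, map_mul, f.apply_symm_apply, hy]
    rw [← h1, ← Nat.card_congr ((Subgroup.centralizer ({zz A} : Set Inst.M.G)).equivMapOfInjective _ f.injective).toEquiv,
      Nat.card_congr (KFacts.Baby.Inst.eC A).toEquiv, A.grp.card_C]
  · have h1 : IsC (f.symm g) := cent_model hO _ (f.injective (by
      rw [map_mul, map_mul, f.apply_symm_apply, hg]))
    have h2 := h1.map f.toMonoidHom
    change IsC (f (f.symm g)) at h2
    rwa [f.apply_symm_apply] at h2

end

end Cfsg.Agent.H903.Ore.Baby
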