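import Cfsg.Agent.H162.GaussExcMain
import Cfsg.Agent.H335.Sr.Chev
import Cfsg.Agent.H335.Sr.Symm
import Cfsg.Agent.H150.MF.Big

/-!
# `F₄(q)`: the Levi subgroup of type long `A₂` times short `A₁` (S2443, helper903)

Nodes of `chevF4`: `0, 1` short, `2, 3` long; `J = {0, 2, 3}`, long block `{3, 2}`, short block `{0}`.

* `Blk K φ₃ φ₂` : `φ₃ : SL₃(K) →* G`, `φ₂ : SL₂(K) →* G` with the root elements as images of transvections;
* `exists_blk`, `Blk.comm`, `Blk.mem₃`, `Blk.mem₂`, `Blk.mem_UJ`, `Blk.mem_UNJ`;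
* `Blk.gl` : conjugation by a pair of elements of `GL₃(K) × GL₂(K)` is induced by an element of `G`;
* `Blk.exists_z` : an involution `z` with `z φ₃(A) z⁻¹ = φ₃(D A⁻ᵀ D)`, `z φ₂(B) z⁻¹ = φ₂(D' B⁻ᵀ D')`, inverting the torus;
* `Blk.conj` : `φ₃(Y) φ₂(B')` is conjugate to `(φ₃(X) φ₂(B))⁻¹`.
-/

set_option autoImplicit false
set_option linter.unusedSectionVars false

namespace Cfsg.Agent.H903.Ore.F4Conj

open CoxeterSystem Cfsg.Agent.ChevalleyStructure.CoxeterGeom Cfsg.Agent.Tits.Roots Cfsg.Agent.Tits.Core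
  Cfsg.Agent.Nodes.Reps Cfsg.Agent.Nodes.BNOf Cfsg.Agent.Nodes.RGDLib Cfsg.Agent.Nodes.Bruhat
  Cfsg.Agent.Nodes.OppDec Cfsg.Agent.Nodes.LeviDec Cfsg.Agent.Nodes.KindChev Cfsg.Agent.Nodes.ChevCls
  Cfsg.Agent.OddHalf.NI.ModelChev
  Cfsg.Agent.H162.GaussDec Cfsg.Agent.H162.GaussLevi Cfsg.Agent.H162.GaussSL Cfsg.Agent.H162.GaussReg
  Cfsg.Agent.H162.GaussMain Cfsg.Agent.H162.GaussPQ Cfsg.Agent.H162.GaussExc Cfsg.Agent.H162.GaussExcMain
open Cfsg.Lie Cfsg.Agent.ChevalleyStructure Cfsg.Agent.ChevalleyStructure.Elts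
  Cfsg.Agent.ChevalleyStructure.RootVec Cfsg.Agent.ChevalleyStructure.NPerm
  Cfsg.Agent.ChevalleyStructure.CoxeterGeomTypes Cfsg.Agent.Nodes.RGDChev Cfsg.Agent.KFacts.RgdChevCoord
open Cfsg.Agent.FixBN.FieldRGD (uu vv dd ww)
open Cfsg.Agent.TitsThree.KExcRT Cfsg.Agent.AGraded Cfsg.Agent.TitsThree.KExcBase
open Cfsg.Agent.H335.Sr
open scoped MatrixGroups

universe u

theorem rep_neg {D : ChevalleyDatum} {l : ℕ} {M : CoxeterMatrix (Fin l)} (hp : IsType D l M) {ω : List (Fin l)}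
    (h : ∀ j : Fin l, Cfsg.Agent.H162.GaussExc.fr D ω (D.simple j) = D.neg (D.simple j)) (x : Fin l → ℤ) :
    rep M.toCoxeterSystem hp.isCartan (M.toCoxeterSystem.wordProd ω) x = -x := by
  have key : rep M.toCoxeterSystem hp.isCartan (M.toCoxeterSystem.wordProd ω) =
      -(LinearMap.id : (Fin l → ℤ) →ₗ[ℤ] (Fin l → ℤ)) := by
    refine LinearMap.pi_ext' fun i => ?_
    refine LinearMap.ext_ring ?_
    change rep M.toCoxeterSystem hp.isCartan (M.toCoxeterSystem.wordProd ω) (Pi.single i 1) = - (Pi.single i 1)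
    have hi := simple_lt hp.inList (lt_rank hp i)
    have h2 : (Pi.single i 1 : Fin l → ℤ) = vec D l (D.simple i) := (vec_simple hp i).symm
    rw [h2, ← fr_vec hp M.toCoxeterSystem ω hi, h i, vec_neg hp hi]
  rw [key]
  rfl

/-- the type of `chevF4` -/
theorem hF : IsType chevF4 4 CoxeterMatrix.F₄ := Cfsg.Agent.Nodes.KindF.isType

/-- the long block -/
def r3 : Fin 3 → Fin 3 → ℕ := ![![0, 24, 26], ![23, 0, 25], ![21, 22, 0]]

/-- the short block -/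
def r2 : Fin 2 → Fin 2 → ℕ := ![![0, 33], ![14, 0]]

theorem rt3 : RTa chevF4 r3 ∧ (RTb chevF4 r3 fun _ _ => 1) ∧ RTc chevF4 r3 ∧
    ∀ i j, i ≠ j → r3 j i = chevF4.neg (r3 i j) := by decide +kernel

theorem rt2 : (∀ i j, i ≠ j → r2 i j < chevF4.nroots) ∧ ∀ i j, i ≠ j → r2 j i = chevF4.neg (r2 i j) := by
  decide +kernel

theorem rcomm : ∀ a b, a ≠ b → ∀ c d, c ≠ d → r2 c d ≠ r3 a b ∧ r2 c d ≠ chevF4.neg (r3 a b) ∧
    chevF4.commTerms (r3 a b) (r2 c d) = [] := by decide +kernel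

/-- the roots of the Levi subgroup -/
theorem rsub : ∀ q < chevF4.nroots, vec chevF4 4 q 1 = 0 → q ∈ [24, 26, 25, 33, 23, 21, 22, 14] := by
  decide +kernel

theorem rneg : ∀ q ∈ [23, 21, 22, 14], ∃ k : Fin 4, vec chevF4 4 q k < 0 := by decide +kernel

theorem rJ : (∀ a b, a ≠ b → vec chevF4 4 (r3 a b) 1 = 0) ∧ (∀ a b, a ≠ b → vec chevF4 4 (r2 a b) 1 = 0) := by
  decide +kernel

/-- the fundamental coweights of the nodes 3 and 0 -/
theorem coweights :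
    (∀ a b, a ≠ b → ∑ i : Fin 4, (![1, 2, 3, 2] : Fin 4 → ℤ) i * chevF4.cartan i (r3 a b) =
      (if a = 0 then 1 else 0) - (if b = 0 then 1 else 0)) ∧
    (∀ a b, a ≠ b → ∑ i : Fin 4, (![1, 2, 3, 2] : Fin 4 → ℤ) i * chevF4.cartan i (r2 a b) = 0) ∧
    (∀ a b, a ≠ b → ∑ i : Fin 4, (![2, 3, 4, 2] : Fin 4 → ℤ) i * chevF4.cartan i (r2 a b) =
      (if a = 0 then 1 else 0) - (if b = 0 then 1 else 0)) ∧
    (∀ a b, a ≠ b → ∑ i : Fin 4, (![2, 3, 4, 2] : Fin 4 → ℤ) i * chevF4.cartan i (r3 a b) = 0) := by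
  decide +kernel

theorem w0neg : ∀ j : Fin 4, Cfsg.Agent.H162.GaussExc.fr chevF4 wF (chevF4.simple j) = chevF4.neg (chevF4.simple j) := by
  decide +kernel

variable (K : Type u) [Field K]

/-- the data of the two blocks -/
structure Blk (φ₃ : SL(3, K) →* ↥(chevF4.group K)) (φ₂ : SL(2, K) →* ↥(chevF4.group K)) : Prop where
  h₃ : ∀ a b (hab : a ≠ b) (c : K), φ₃ (Matrix.SpecialLinearGroup.transvection hab c) =
    xc hF (vec chevF4 4 (r3 a b)) ((1 : K) * c)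
  h₂ : ∀ a b (hab : a ≠ b) (c : K), φ₂ (Matrix.SpecialLinearGroup.transvection hab c) =
    xc hF (vec chevF4 4 (r2 a b)) ((1 : K) * c)

theorem exists_blk : ∃ φ₃ φ₂, Blk K φ₃ φ₂ := by
  obtain ⟨φ₃, h3⟩ := exists_hom_D hF (K := K) (ε := 1) (by norm_num) rt3.1 rt3.2.1 rt3.2.2.1 rt3.2.2.2
  have h33 : 33 < chevF4.nroots := by decide +kernel
  have h14 : chevF4.neg 33 = 14 := by decide +kernel
  obtain ⟨φ₂, h1, h2, -, -, -⟩ := exists_sl hF (K := K) h33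
  refine ⟨φ₃, φ₂, fun a b hab c => ?_, fun a b hab c => ?_⟩
  · rw [h3 a b hab c, Int.cast_one]
  · rw [one_mul]
    have e1 : ∀ c : K, Matrix.SpecialLinearGroup.transvection (show (0 : Fin 2) ≠ 1 by decide) c = uu c := by
      intro c
      apply Subtype.ext
      ext i j
      fin_cases i <;> fin_cases j <;> simp [Matrix.SpecialLinearGroup.transvection, Matrix.transvection, uu]
    have e2 : ∀ c : K, Matrix.SpecialLinearGroup.transvection (show (1 : Fin 2) ≠ 0 by decide) c = vv c := by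
      intro c
      apply Subtype.ext
      ext i j
      fin_cases i <;> fin_cases j <;> simp [Matrix.SpecialLinearGroup.transvection, Matrix.transvection, vv]
    have e3 : vec chevF4 4 14 = - vec chevF4 4 33 := by
      rw [← vec_neg hF h33, h14]
    fin_cases a <;> fin_cases b
    · exact absurd rfl hab
    · exact (congrArg φ₂ (e1 c)).trans (h1 c)
    · refine (congrArg φ₂ (e2 c)).trans ((h2 c).trans ?_)
      rw [← e3]
      rfl
    · exact absurd rfl hab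

variable {K}
variable {φ₃ : SL(3, K) →* ↥(chevF4.group K)} {φ₂ : SL(2, K) →* ↥(chevF4.group K)} (B : Blk K φ₃ φ₂)

namespace Blk

include B

theorem comm (A : SL(3, K)) (C : SL(2, K)) : φ₃ A * φ₂ C = φ₂ C * φ₃ A := by
  have key : ∀ a b (hab : a ≠ b) (c : K) a' b' (hab' : a' ≠ b') (c' : K),
      Commute (φ₃ (Matrix.SpecialLinearGroup.transvection hab c)) (φ₂ (Matrix.SpecialLinearGroup.transvection hab' c')) := by
    intro a b hab c a' b' hab' c'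
    rw [B.h₃, B.h₂]
    apply Subtype.ext
    obtain ⟨h1, h2, h3⟩ := rcomm a b hab a' b' hab'
    have h4 := comm_nil (F := K) hF.inList (rt3.1 a b hab) (rt2.1 a' b' hab') h1 h2 h3 (1 * c) (1 * c')
    rw [← coe_xc hF (rt3.1 a b hab), ← coe_xc hF (rt2.1 a' b' hab')] at h4
    exact h4
  have h1 : ∀ C : SL(2, K), ∀ a b (hab : a ≠ b) (c : K),
      Commute (φ₃ (Matrix.SpecialLinearGroup.transvection hab c)) (φ₂ C) := by
    intro C a b hab c
    have h2 : (⊤ : Subgroup SL(2, K)) ≤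
        (Subgroup.centralizer {φ₃ (Matrix.SpecialLinearGroup.transvection hab c)}).comap φ₂ := by
      rw [← Cfsg.Agent.LieClassical.SLGen.closure_transvections, Subgroup.closure_le]
      rintro _ ⟨a', b', hab', c', rfl⟩
      exact Subgroup.mem_centralizer_singleton_iff.2 (key a b hab c a' b' hab' c').eq.symm
    exact (Subgroup.mem_centralizer_singleton_iff.1 (h2 (Subgroup.mem_top C))).symm
  have h3 : (⊤ : Subgroup SL(3, K)) ≤ (Subgroup.centralizer {φ₂ C}).comap φ₃ := by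
    rw [← Cfsg.Agent.LieClassical.SLGen.closure_transvections, Subgroup.closure_le]
    rintro _ ⟨a, b, hab, c, rfl⟩
    exact Subgroup.mem_centralizer_singleton_iff.2 (h1 C a b hab c).eq
  exact Subgroup.mem_centralizer_singleton_iff.1 (h3 (Subgroup.mem_top A))

theorem mem₃ (A : SL(3, K)) : φ₃ A ∈ LJ CoxeterMatrix.F₄.toCoxeterSystem hF.isCartan (TT chevF4 K) (XX chevF4 4 K)
    {k | k ≠ 1} := by
  have h1 : (⊤ : Subgroup SL(3, K)) ≤
      (LJ CoxeterMatrix.F₄.toCoxeterSystem hF.isCartan (TT chevF4 K) (XX chevF4 4 K) {k | k ≠ 1}).comap φ₃ := by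
    rw [← Cfsg.Agent.LieClassical.SLGen.closure_transvections, Subgroup.closure_le]
    rintro _ ⟨a, b, hab, c, rfl⟩
    change φ₃ _ ∈ LJ CoxeterMatrix.F₄.toCoxeterSystem hF.isCartan (TT chevF4 K) (XX chevF4 4 K) {k | k ≠ 1}
    rw [B.h₃]
    refine X_le_LJ (J := {k | k ≠ 1}) (x := vec chevF4 4 (r3 a b)) ⟨isRoot_vec hF _ (rt3.1 a b hab), ?_⟩ ?_
    · intro k hk
      have : k = 1 := by simpa using hk
      subst this
      exact rJ.1 a b hab
    · exact (mem_XX hF (rt3.1 a b hab) _).2 ⟨_, rfl⟩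
  exact h1 (Subgroup.mem_top A)

theorem mem₂ (A : SL(2, K)) : φ₂ A ∈ LJ CoxeterMatrix.F₄.toCoxeterSystem hF.isCartan (TT chevF4 K) (XX chevF4 4 K)
    {k | k ≠ 1} := by
  have h1 : (⊤ : Subgroup SL(2, K)) ≤
      (LJ CoxeterMatrix.F₄.toCoxeterSystem hF.isCartan (TT chevF4 K) (XX chevF4 4 K) {k | k ≠ 1}).comap φ₂ := by
    rw [← Cfsg.Agent.LieClassical.SLGen.closure_transvections, Subgroup.closure_le]
    rintro _ ⟨a, b, hab, c, rfl⟩
    change φ₂ _ ∈ LJ CoxeterMatrix.F₄.toCoxeterSystem hF.isCartan (TT chevF4 K) (XX chevF4 4 K) {k | k ≠ 1}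
    rw [B.h₂]
    refine X_le_LJ (J := {k | k ≠ 1}) (x := vec chevF4 4 (r2 a b)) ⟨isRoot_vec hF _ (rt2.1 a b hab), ?_⟩ ?_
    · intro k hk
      have : k = 1 := by simpa using hk
      subst this
      exact rJ.2 a b hab
    · exact (mem_XX hF (rt2.1 a b hab) _).2 ⟨_, rfl⟩
  exact h1 (Subgroup.mem_top A)

theorem XX_le₃ {a b : Fin 3} (hab : a ≠ b) {S : Subgroup SL(3, K)}
    (hS : ∀ c, Matrix.SpecialLinearGroup.transvection hab c ∈ S) : XX chevF4 4 K (vec chevF4 4 (r3 a b)) ≤ S.map φ₃ := by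
  intro y hy
  obtain ⟨c, rfl⟩ := (mem_XX hF (rt3.1 a b hab) y).1 hy
  exact ⟨_, hS c, by rw [B.h₃, one_mul]⟩

theorem XX_le₂ {a b : Fin 2} (hab : a ≠ b) {S : Subgroup SL(2, K)}
    (hS : ∀ c, Matrix.SpecialLinearGroup.transvection hab c ∈ S) : XX chevF4 4 K (vec chevF4 4 (r2 a b)) ≤ S.map φ₂ := by
  intro y hy
  obtain ⟨c, rfl⟩ := (mem_XX hF (rt2.1 a b hab) y).1 hy
  exact ⟨_, hS c, by rw [B.h₂, one_mul]⟩

theorem UJ_le : UJ CoxeterMatrix.F₄.toCoxeterSystem hF.isCartan (XX chevF4 4 K) {k | k ≠ 1} ≤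
    (UT 3 K).map φ₃ ⊔ (UT 2 K).map φ₂ := by
  refine RGD.Sup_le fun x hx => ?_
  obtain ⟨q, hq, rfl⟩ := (isRoot_iff hF _ x).1 hx.1
  have h1 := rsub q hq (hx.2.2 1 (by simp))
  have h2 : q ∉ [23, 21, 22, 14] := by
    intro h
    obtain ⟨k, hk⟩ := rneg q h
    exact absurd (hx.2.1 k) (not_le.2 hk)
  have h3 : q ∈ [24, 26, 25, 33] := by
    simp only [List.mem_cons, List.not_mem_nil, or_false] at h1 h2 ⊢
    tauto
  simp only [List.mem_cons, List.not_mem_nil, or_false] at h3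
  rcases h3 with rfl | rfl | rfl | rfl
  · exact le_trans (XX_le₃ B (a := 0) (b := 1) (by decide) fun c => tv_mem_UT _ (by decide) c) le_sup_left
  · exact le_trans (XX_le₃ B (a := 0) (b := 2) (by decide) fun c => tv_mem_UT _ (by decide) c) le_sup_left
  · exact le_trans (XX_le₃ B (a := 1) (b := 2) (by decide) fun c => tv_mem_UT _ (by decide) c) le_sup_left
  · exact le_trans (XX_le₂ B (a := 0) (b := 1) (by decide) fun c => tv_mem_UT _ (by decide) c) le_sup_right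

theorem UNJ_le : UNJ CoxeterMatrix.F₄.toCoxeterSystem hF.isCartan (XX chevF4 4 K) {k | k ≠ 1} ≤
    (LT 3 K).map φ₃ ⊔ (LT 2 K).map φ₂ := by
  refine RGD.Sup_le fun x hx => ?_
  obtain ⟨q, hq, rfl⟩ := (isRoot_iff hF _ x).1 (by simpa using hx.1.neg)
  have h0 : vec chevF4 4 q 1 = 0 := by
    have := hx.2.2 1 (by simp)
    simpa using this
  have h1 := rsub q hq h0
  have h2 : ∀ k, vec chevF4 4 q k ≤ 0 := by
    intro k
    have : (0 : ℤ) ≤ -vec chevF4 4 q k := hx.2.1 k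
    linarith
  have h4 : ∀ q ∈ [24, 26, 25, 33], ∃ k : Fin 4, 0 < vec chevF4 4 q k := by decide +kernel
  have h5 : q ∉ [24, 26, 25, 33] := by
    intro h
    obtain ⟨k, hk⟩ := h4 q h
    exact absurd (h2 k) (not_le.2 hk)
  have h3 : q ∈ [23, 21, 22, 14] := by
    simp only [List.mem_cons, List.not_mem_nil, or_false] at h1 h5 ⊢
    tauto
  simp only [List.mem_cons, List.not_mem_nil, or_false] at h3
  rcases h3 with rfl | rfl | rfl | rfl
  · exact le_trans (XX_le₃ B (a := 1) (b := 0) (by decide) fun c => tv_mem_LT _ (by decide) c) le_sup_left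
  · exact le_trans (XX_le₃ B (a := 2) (b := 0) (by decide) fun c => tv_mem_LT _ (by decide) c) le_sup_left
  · exact le_trans (XX_le₃ B (a := 2) (b := 1) (by decide) fun c => tv_mem_LT _ (by decide) c) le_sup_left
  · exact le_trans (XX_le₂ B (a := 1) (b := 0) (by decide) fun c => tv_mem_LT _ (by decide) c) le_sup_right

theorem mem_sup {S : Subgroup SL(3, K)} {S' : Subgroup SL(2, K)} {y : ↥(chevF4.group K)}
    (hy : y ∈ S.map φ₃ ⊔ S'.map φ₂) : ∃ A ∈ S, ∃ C ∈ S', y = φ₃ A * φ₂ C := by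
  have h1 : S'.map φ₂ ≤ Subgroup.normalizer (S.map φ₃ : Set ↥(chevF4.group K)) := by
    rintro _ ⟨C, -, rfl⟩
    rw [Subgroup.mem_normalizer_iff]
    intro x
    constructor
    · rintro ⟨A, hA, rfl⟩
      exact ⟨A, hA, by rw [← B.comm]; group⟩
    · rintro ⟨A, hA, e⟩
      refine ⟨A, hA, ?_⟩
      have : x = (φ₂ C)⁻¹ * φ₃ A * φ₂ C := by rw [e]; group
      rw [this, mul_assoc, B.comm]; group
  have h2 : y ∈ ((S.map φ₃ ⊔ S'.map φ₂ : Subgroup ↥(chevF4.group K)) : Set ↥(chevF4.group K)) := hy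
  rw [Subgroup.coe_mul_of_right_le_normalizer_left _ _ h1, Set.mem_mul] at h2
  obtain ⟨_, ⟨A, hA, rfl⟩, _, ⟨C, hC, rfl⟩, e⟩ := h2
  exact ⟨A, hA, C, hC, e.symm⟩

/-- **the elements of `U_J`** -/
theorem mem_UJ {u : ↥(chevF4.group K)}
    (hu : u ∈ UJ CoxeterMatrix.F₄.toCoxeterSystem hF.isCartan (XX chevF4 4 K) {k | k ≠ 1}) :
    ∃ A ∈ UT 3 K, ∃ C ∈ UT 2 K, u = φ₃ A * φ₂ C := mem_sup B (B.UJ_le hu)

/-- **the elements of `U_J⁻`** -/
theorem mem_UNJ {u : ↥(chevF4.group K)}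
    (hu : u ∈ UNJ CoxeterMatrix.F₄.toCoxeterSystem hF.isCartan (XX chevF4 4 K) {k | k ≠ 1}) :
    ∃ A ∈ LT 3 K, ∃ C ∈ LT 2 K, u = φ₃ A * φ₂ C := mem_sup B (B.UNJ_le hu)

/-! ### Conjugation by diagonal elements -/

theorem act₃ {e : Fin 4 → ℤ} {k : ℤ} (he : ∀ a b, a ≠ b → ∑ i : Fin 4, e i * chevF4.cartan i (r3 a b) =
    k * ((if a = 0 then 1 else 0) - (if b = 0 then 1 else 0))) (d : Kˣ) (A : SL(3, K)) :
    sg hF e d * φ₃ A * (sg hF e d)⁻¹ = φ₃ (gc (dd 2 (d ^ k)) A) := by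
  have h1 : (MulAut.conj (sg hF e d)).toMonoidHom.comp φ₃ = φ₃.comp (gcHom (dd 2 (d ^ k))) := by
    refine hom_ext fun a b hab c => ?_
    change sg hF e d * φ₃ _ * (sg hF e d)⁻¹ = φ₃ (gc (dd 2 (d ^ k)) _)
    rw [gc_dd_transvection, B.h₃, B.h₃, act_sg hF e d (rt3.1 a b hab), he a b hab]
    congr 1
    by_cases ha : a = 0
    · have hb : b ≠ 0 := fun h => hab (ha.trans h.symm)
      simp [ha, hb]
    · by_cases hb : b = 0
      · simp [ha, hb]
        ring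
      · simp [ha, hb]
  exact DFunLike.congr_fun h1 A

theorem act₂ {e : Fin 4 → ℤ} {k : ℤ} (he : ∀ a b, a ≠ b → ∑ i : Fin 4, e i * chevF4.cartan i (r2 a b) =
    k * ((if a = 0 then 1 else 0) - (if b = 0 then 1 else 0))) (d : Kˣ) (A : SL(2, K)) :
    sg hF e d * φ₂ A * (sg hF e d)⁻¹ = φ₂ (gc (dd 1 (d ^ k)) A) := by
  have h1 : (MulAut.conj (sg hF e d)).toMonoidHom.comp φ₂ = φ₂.comp (gcHom (dd 1 (d ^ k))) := by
    refine hom_ext fun a b hab c => ?_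
    change sg hF e d * φ₂ _ * (sg hF e d)⁻¹ = φ₂ (gc (dd 1 (d ^ k)) _)
    rw [gc_dd_transvection, B.h₂, B.h₂, act_sg hF e d (rt2.1 a b hab), he a b hab]
    congr 1
    by_cases ha : a = 0
    · have hb : b ≠ 0 := fun h => hab (ha.trans h.symm)
      simp [ha, hb]
    · by_cases hb : b = 0
      · simp [ha, hb]
        ring
      · simp [ha, hb]
  exact DFunLike.congr_fun h1 A

theorem gc_dd_one {n : ℕ} (A : Matrix.SpecialLinearGroup (Fin (n + 1)) K) : gc (dd n (1 : Kˣ)) A = A := by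
  have : dd n (1 : Kˣ) = 1 := by
    apply Units.ext
    change Matrix.diagonal _ = 1
    rw [← Matrix.diagonal_one]
    congr 1
    funext i
    simp
  rw [this, gc_one]

/-- **conjugation by `GL₃ × GL₂`** -/
theorem gl (g : GL (Fin 3) K) (g' : GL (Fin 2) K) : ∃ y : ↥(chevF4.group K),
    (∀ A, y * φ₃ A * y⁻¹ = φ₃ (gc g A)) ∧ ∀ C, y * φ₂ C * y⁻¹ = φ₂ (gc g' C) := by
  obtain ⟨d, A₀, hg⟩ := exists_dd (n := 2) g
  obtain ⟨d', C₀, hg'⟩ := exists_dd (n := 1) g'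
  have a3 := fun A => B.act₃ (e := ![1, 2, 3, 2]) (k := 1) (fun a b hab => by rw [coweights.1 a b hab, one_mul]) d A
  have a2 := fun A => B.act₂ (e := ![1, 2, 3, 2]) (k := 0) (fun a b hab => by rw [coweights.2.1 a b hab, zero_mul]) d A
  have b2 := fun A => B.act₂ (e := ![2, 3, 4, 2]) (k := 1) (fun a b hab => by rw [coweights.2.2.1 a b hab, one_mul]) d' A
  have b3 := fun A => B.act₃ (e := ![2, 3, 4, 2]) (k := 0) (fun a b hab => by rw [coweights.2.2.2 a b hab, zero_mul]) d' A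
  simp only [zpow_one, zpow_zero, gc_dd_one B] at a3 a2 b2 b3
  have c3 : ∀ A, φ₃ (gc g A) = φ₃ (gc (dd 2 d) (A₀ * A * A₀⁻¹)) := by
    intro A
    rw [hg, ← gc_gc]
    congr 1
  have c2 : ∀ C, φ₂ (gc g' C) = φ₂ (gc (dd 1 d') (C₀ * C * C₀⁻¹)) := by
    intro A
    rw [hg', ← gc_gc]
    congr 1
  obtain ⟨t₁, ht₁⟩ : ∃ t, t = sg hF ![1, 2, 3, 2] d := ⟨_, rfl⟩
  obtain ⟨t₂, ht₂⟩ : ∃ t, t = sg hF ![2, 3, 4, 2] d' := ⟨_, rfl⟩
  rw [← ht₁] at a3 a2
  rw [← ht₂] at b3 b2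
  refine ⟨t₁ * t₂ * (φ₃ A₀ * φ₂ C₀), fun A => ?_, fun C => ?_⟩
  · have h1 : φ₃ A₀ * φ₂ C₀ * φ₃ A * (φ₃ A₀ * φ₂ C₀)⁻¹ = φ₃ (A₀ * A * A₀⁻¹) := by
      rw [map_mul, map_mul, map_inv]
      have h2 := B.comm A C₀
      calc φ₃ A₀ * φ₂ C₀ * φ₃ A * (φ₃ A₀ * φ₂ C₀)⁻¹ = φ₃ A₀ * (φ₂ C₀ * φ₃ A) * (φ₂ C₀)⁻¹ * (φ₃ A₀)⁻¹ := by group
        _ = φ₃ A₀ * φ₃ A * (φ₃ A₀)⁻¹ := by rw [← h2]; group
    have h3 : t₁ * t₂ * (φ₃ A₀ * φ₂ C₀) * φ₃ A * (t₁ * t₂ * (φ₃ A₀ * φ₂ C₀))⁻¹ =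
        t₁ * (t₂ * (φ₃ A₀ * φ₂ C₀ * φ₃ A * (φ₃ A₀ * φ₂ C₀)⁻¹) * t₂⁻¹) * t₁⁻¹ := by group
    rw [h3, h1, b3, a3, c3]
  · have h1 : φ₃ A₀ * φ₂ C₀ * φ₂ C * (φ₃ A₀ * φ₂ C₀)⁻¹ = φ₂ (C₀ * C * C₀⁻¹) := by
      have h2 := B.comm A₀ (C₀ * C * C₀⁻¹)
      calc φ₃ A₀ * φ₂ C₀ * φ₂ C * (φ₃ A₀ * φ₂ C₀)⁻¹
          = φ₃ A₀ * (φ₂ C₀ * φ₂ C * (φ₂ C₀)⁻¹) * (φ₃ A₀)⁻¹ := by group
        _ = φ₃ A₀ * φ₂ (C₀ * C * C₀⁻¹) * (φ₃ A₀)⁻¹ := by rw [map_mul, map_mul, map_inv]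
        _ = _ := by rw [h2]; group
    have h3 : t₁ * t₂ * (φ₃ A₀ * φ₂ C₀) * φ₂ C * (t₁ * t₂ * (φ₃ A₀ * φ₂ C₀))⁻¹ =
        t₁ * (t₂ * (φ₃ A₀ * φ₂ C₀ * φ₂ C * (φ₃ A₀ * φ₂ C₀)⁻¹) * t₂⁻¹) * t₁⁻¹ := by group
    rw [h3, h1, b2, a2, c2]

/-- **the involution** -/
theorem exists_z [Finite K] : ∃ (z : ↥(chevF4.group K)) (d : Fin 3 → K) (hd : ∀ a, d a * d a = 1) (d' : Fin 2 → K)
    (hd' : ∀ a, d' a * d' a = 1), z * z = 1 ∧ (∀ A, z * φ₃ A * z⁻¹ = φ₃ (tau d hd A)) ∧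
    (∀ C, z * φ₂ C * z⁻¹ = φ₂ (tau d' hd' C)) ∧ ∀ s ∈ TT chevF4 K, z * s * z⁻¹ = s⁻¹ := by
  obtain ⟨p, hpc⟩ := CharP.exists K
  have : Fact p.Prime := ⟨(CharP.char_is_prime_or_zero K p).resolve_right (CharP.char_ne_zero_of_finite K p)⟩
  have R := rgd (K := K) hF CoxeterMatrix.F₄.toCoxeterSystem p
  obtain ⟨ε, z, Z⟩ := exists_ZD_neg hF CoxeterMatrix.F₄.toCoxeterSystem R.nsys (rep_neg hF w0neg)
  obtain ⟨d, hd, h3⟩ := Z.block (n := 1) (r := r3) (s := fun _ _ => 1) (φ := φ₃) rt3.1 rt3.2.2.2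
    (fun a b hab => rep_neg hF w0neg _) (fun _ _ _ => one_mul 1) B.h₃
  obtain ⟨d', hd', h2⟩ := Z.block (n := 0) (r := r2) (s := fun _ _ => 1) (φ := φ₂) rt2.1 rt2.2
    (fun a b hab => rep_neg hF w0neg _) (fun _ _ _ => one_mul 1) B.h₂
  exact ⟨z, d, hd, d', hd', Z.sq, h3, h2, fun s hs => Z.tor hs (fun _ => rfl) fun _ => rfl⟩

end Blk

/-! ### Matrices -/

section Mat

variable {n : ℕ}

theorem charpoly_tau [NeZero n] (d : Fin n → K) (hd : ∀ a, d a * d a = 1) (X : Matrix.SpecialLinearGroup (Fin n) K) :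
    (tau d hd X).1.charpoly = (X⁻¹).1.charpoly := by
  rw [coe_tau]
  have h1 : (Matrix.diagonal d : Matrix (Fin n) (Fin n) K) * Matrix.diagonal d = 1 := diag_sq hd
  rw [Matrix.charpoly_mul_comm, ← Matrix.mul_assoc, h1, Matrix.one_mul, Matrix.charpoly_transpose]

theorem charpoly_gc (g : GL (Fin n) K) (X : Matrix.SpecialLinearGroup (Fin n) K) :
    (gc g X).1.charpoly = X.1.charpoly := by
  change (g.1 * X.1 * (g⁻¹).1).charpoly = _
  rw [Matrix.charpoly_mul_comm, ← Matrix.mul_assoc]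
  have : (g⁻¹).1 * g.1 = 1 := by rw [← Units.val_mul, inv_mul_cancel, Units.val_one]
  rw [this, Matrix.one_mul]

theorem exists_gc [Finite K] {X Y : Matrix.SpecialLinearGroup (Fin n) K} (hX : Irreducible X.1.charpoly)
    (hXY : X.1.charpoly = Y.1.charpoly) : ∃ g : GL (Fin n) K, Y = gc g X := by
  obtain ⟨g, hg⟩ := Cfsg.Agent.H150.MF.exists_conj (Cfsg.Agent.H150.MF.cls_of_irreducible hX)
    (Cfsg.Agent.H150.MF.cls_of_irreducible (hXY ▸ hX)) hXY
  exact ⟨g, by rw [hg]; rfl⟩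

end Mat

/-- the element is not scalar -/
def NS (C : SL(2, K)) : Prop := C.1 1 0 ≠ 0 ∨ C.1 0 1 ≠ 0 ∨ C.1 0 0 ≠ C.1 1 1

theorem NS.exists_comp {C : SL(2, K)} (h : NS C) :
    ∃ g : GL (Fin 2) K, C.1 * g.1 = g.1 * !![0, -1; 1, C.1.trace] := by
  obtain ⟨a, b, c, d, hC⟩ : ∃ a b c d : K, C.1 = !![a, b; c, d] :=
    ⟨_, _, _, _, Matrix.eta_fin_two C.1⟩
  have hdet : a * d - b * c = 1 := by
    have := C.2
    rw [hC, Matrix.det_fin_two_of] at this
    exact this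
  have htr : C.1.trace = a + d := by rw [hC, Matrix.trace_fin_two_of]
  rw [NS, hC] at h
  simp only [Matrix.of_apply, Matrix.cons_val', Matrix.cons_val_zero, Matrix.cons_val_one, Matrix.cons_val_fin_one,
    Matrix.empty_val', ne_eq] at h
  rw [htr, hC]
  rcases h with h | h | h
  · refine ⟨Matrix.GeneralLinearGroup.mkOfDetNeZero !![1, a; 0, c] (by
      rw [Matrix.det_fin_two_of]; simpa using h), ?_⟩
    change !![a, b; c, d] * !![1, a; 0, c] = !![1, a; 0, c] * !![0, -1; 1, a + d]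
    rw [Matrix.mul_fin_two, Matrix.mul_fin_two]
    have e1 : a * a + b * c = 1 * -1 + a * (a + d) := by linear_combination (-1 : K) * hdet
    have e2 : c * a + d * c = 0 * -1 + c * (a + d) := by ring
    rw [e1, e2]
    simp
  · refine ⟨Matrix.GeneralLinearGroup.mkOfDetNeZero !![0, b; 1, d] (by
      rw [Matrix.det_fin_two_of]; simpa using h), ?_⟩
    change !![a, b; c, d] * !![0, b; 1, d] = !![0, b; 1, d] * !![0, -1; 1, a + d]
    rw [Matrix.mul_fin_two, Matrix.mul_fin_two]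
    have e1 : a * b + b * d = 0 * -1 + b * (a + d) := by ring
    have e2 : c * b + d * d = 1 * -1 + d * (a + d) := by linear_combination (-1 : K) * hdet
    rw [e1, e2]
    simp
  · by_cases hc : c = 0
    · by_cases hb : b = 0
      · subst hb hc
        refine ⟨Matrix.GeneralLinearGroup.mkOfDetNeZero !![1, a; 1, d] (by
          rw [Matrix.det_fin_two_of, one_mul, mul_one, sub_ne_zero]; exact fun e => h e.symm), ?_⟩
        change !![a, 0; 0, d] * !![1, a; 1, d] = !![1, a; 1, d] * !![0, -1; 1, a + d]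
        rw [Matrix.mul_fin_two, Matrix.mul_fin_two]
        have e1 : a * a + 0 * d = 1 * -1 + a * (a + d) := by linear_combination (-1 : K) * hdet
        have e2 : 0 * a + d * d = 1 * -1 + d * (a + d) := by linear_combination (-1 : K) * hdet
        rw [e1, e2]
        simp
      · refine ⟨Matrix.GeneralLinearGroup.mkOfDetNeZero !![0, b; 1, d] (by
          rw [Matrix.det_fin_two_of]; simpa using hb), ?_⟩
        change !![a, b; c, d] * !![0, b; 1, d] = !![0, b; 1, d] * !![0, -1; 1, a + d]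
        rw [Matrix.mul_fin_two, Matrix.mul_fin_two]
        have e1 : a * b + b * d = 0 * -1 + b * (a + d) := by ring
        have e2 : c * b + d * d = 1 * -1 + d * (a + d) := by linear_combination (-1 : K) * hdet
        rw [e1, e2]
        simp
    · refine ⟨Matrix.GeneralLinearGroup.mkOfDetNeZero !![1, a; 0, c] (by
        rw [Matrix.det_fin_two_of]; simpa using hc), ?_⟩
      change !![a, b; c, d] * !![1, a; 0, c] = !![1, a; 0, c] * !![0, -1; 1, a + d]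
      rw [Matrix.mul_fin_two, Matrix.mul_fin_two]
      have e1 : a * a + b * c = 1 * -1 + a * (a + d) := by linear_combination (-1 : K) * hdet
      have e2 : c * a + d * c = 0 * -1 + c * (a + d) := by ring
      rw [e1, e2]
      simp

theorem NS.exists_gc {C C' : SL(2, K)} (h : NS C) (h' : NS C') (ht : C'.1.trace = C.1.trace) :
    ∃ g : GL (Fin 2) K, C' = gc g C := by
  obtain ⟨g, hg⟩ := h.exists_comp
  obtain ⟨g', hg'⟩ := h'.exists_comp
  refine ⟨g' * g⁻¹, ?_⟩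
  apply coe_inj
  rw [coe_gc]
  rw [ht] at hg'
  obtain ⟨m, hm⟩ : ∃ m : GL (Fin 2) K, m.1 = !![0, -1; 1, C.1.trace] :=
    ⟨Matrix.GeneralLinearGroup.mkOfDetNeZero !![0, -1; 1, C.1.trace] (by
      rw [Matrix.det_fin_two_of]; simp), rfl⟩
  have e1 : (C : GL (Fin 2) K) * g = g * m := Units.ext (by
    change C.1 * g.1 = g.1 * m.1
    rw [hm, hg])
  have e2 : (C' : GL (Fin 2) K) * g' = g' * m := Units.ext (by
    change C'.1 * g'.1 = g'.1 * m.1
    rw [hm, hg'])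
  have e3 : m = g⁻¹ * (C : GL (Fin 2) K) * g := by rw [mul_assoc, e1]; group
  calc (C' : GL (Fin 2) K) = (C' : GL (Fin 2) K) * g' * g'⁻¹ := by group
    _ = g' * m * g'⁻¹ := by rw [e2]
    _ = g' * g⁻¹ * (C : GL (Fin 2) K) * (g' * g⁻¹)⁻¹ := by rw [e3]; group

theorem coe_inv_two (C : SL(2, K)) : (C⁻¹).1 = !![C.1 1 1, -C.1 0 1; -C.1 1 0, C.1 0 0] := by
  rw [Matrix.SpecialLinearGroup.coe_inv, Matrix.adjugate_fin_two]

theorem NS.inv {C : SL(2, K)} (h : NS C) : NS C⁻¹ := by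
  rw [NS, coe_inv_two]
  simp only [Matrix.of_apply, Matrix.cons_val', Matrix.cons_val_zero, Matrix.cons_val_one, Matrix.cons_val_fin_one,
    Matrix.empty_val', ne_eq, neg_eq_zero]
  rcases h with h | h | h
  · exact Or.inl h
  · exact Or.inr (Or.inl h)
  · exact Or.inr (Or.inr fun e => h e.symm)

theorem trace_inv (C : SL(2, K)) : (C⁻¹).1.trace = C.1.trace := by
  rw [coe_inv_two, Matrix.trace_fin_two_of, Matrix.trace_fin_two]
  ring

theorem tau_apply (d : Fin 2 → K) (hd : ∀ a, d a * d a = 1) (C : SL(2, K)) (i j : Fin 2) :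
    (tau d hd C).1 i j = d i * (C⁻¹).1 j i * d j := by
  rw [coe_tau, Matrix.mul_diagonal, Matrix.diagonal_mul, Matrix.transpose_apply]

theorem NS.tau {C : SL(2, K)} (h : NS C) (d : Fin 2 → K) (hd : ∀ a, d a * d a = 1) : NS (tau d hd C) := by
  have hd0 : ∀ a, d a ≠ 0 := fun a => left_ne_zero_of_mul_eq_one (hd a)
  have h' := h.inv
  rw [NS] at h'
  rw [NS, tau_apply, tau_apply, tau_apply, tau_apply]
  rcases h' with h | h | h
  · exact Or.inr (Or.inl (mul_ne_zero (mul_ne_zero (hd0 _) h) (hd0 _)))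
  · exact Or.inl (mul_ne_zero (mul_ne_zero (hd0 _) h) (hd0 _))
  · refine Or.inr (Or.inr fun e => h ?_)
    have e1 : ∀ i, d i * (C⁻¹).1 i i * d i = (C⁻¹).1 i i := by
      intro i
      calc d i * (C⁻¹).1 i i * d i = (d i * d i) * (C⁻¹).1 i i := by ring
        _ = _ := by rw [hd, one_mul]
    rw [e1, e1] at e
    exact e

theorem trace_tau (d : Fin 2 → K) (hd : ∀ a, d a * d a = 1) (C : SL(2, K)) : (tau d hd C).1.trace = C.1.trace := by
  rw [Matrix.trace_fin_two, tau_apply, tau_apply, ← trace_inv, Matrix.trace_fin_two]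
  have e1 : ∀ i, d i * (C⁻¹).1 i i * d i = (C⁻¹).1 i i := by
    intro i
    calc d i * (C⁻¹).1 i i * d i = (d i * d i) * (C⁻¹).1 i i := by ring
      _ = _ := by rw [hd, one_mul]
  rw [e1, e1]

/-! ### Conjugacy -/

include B in
/-- **Conjugacy.** `Y` has the characteristic polynomial of `X` or of `X⁻¹`, irreducible; `C`, `C'` are not scalar and have
the same trace: `φ₃(Y) φ₂(C')` is conjugate to the inverse of `φ₃(X) φ₂(C)`. -/
theorem Blk.conj [Finite K] {X Y : SL(3, K)} (hX : Irreducible X.1.charpoly) (hY : Irreducible Y.1.charpoly)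
    (hXY : Y.1.charpoly = X.1.charpoly ∨ Y.1.charpoly = (X⁻¹).1.charpoly) {C C' : SL(2, K)} (hC : NS C) (hC' : NS C')
    (ht : C'.1.trace = C.1.trace) : ∃ y : ↥(chevF4.group K), φ₃ Y * φ₂ C' = y * (φ₃ X * φ₂ C)⁻¹ * y⁻¹ := by
  have e0 : (φ₃ X * φ₂ C)⁻¹ = φ₃ X⁻¹ * φ₂ C⁻¹ := by
    rw [mul_inv_rev, ← map_inv, ← map_inv, B.comm]
  rcases hXY with h | h
  · obtain ⟨z, d, hd, d', hd', -, h3, h2, -⟩ := B.exists_z
    have e1 : (tau d hd X⁻¹).1.charpoly = Y.1.charpoly := by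
      rw [charpoly_tau, inv_inv, h]
    have e2 : Irreducible (tau d hd X⁻¹).1.charpoly := by rw [e1]; exact hY
    obtain ⟨g, hg⟩ := exists_gc e2 e1
    obtain ⟨g', hg'⟩ := NS.exists_gc (hC.inv.tau d' hd') hC' (by rw [trace_tau, trace_inv, ht])
    obtain ⟨y, hy3, hy2⟩ := B.gl g g'
    refine ⟨y * z, ?_⟩
    rw [e0, hg, hg', ← hy3, ← hy2, ← h3, ← h2]
    group
  · have e2 : Irreducible (X⁻¹).1.charpoly := by rw [← h]; exact hY
    obtain ⟨g, hg⟩ := exists_gc e2 h.symm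
    obtain ⟨g', hg'⟩ := NS.exists_gc hC.inv hC' (by rw [trace_inv, ht])
    obtain ⟨y, hy3, hy2⟩ := B.gl g g'
    refine ⟨y, ?_⟩
    rw [e0, hg, hg', ← hy3, ← hy2]
    group

/-! ### The `SL₂`-part in characteristic three -/

/-- minus a unipotent element -/
theorem neg_facts {N : SL(2, K)} (h3 : (3 : K) = 0) (hN : (N.1 - 1) * (N.1 - 1) = 0) : (-N) ^ 3 = -1 := by
  apply Subtype.ext
  change (-N.1) ^ 3 = -1
  obtain ⟨M, hM⟩ : ∃ M, M = N.1 - 1 := ⟨_, rfl⟩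
  rw [← hM] at hN
  have e0 : N.1 = M + 1 := by rw [hM, sub_add_cancel]
  have e2 : N.1 ^ 3 = 1 := by
    have e3 : N.1 ^ 3 = (M * M) * M + 3 • (M * M) + 3 • M + 1 := by rw [e0]; noncomm_ring
    have e4 : (3 : ℕ) • M = 0 := by
      rw [← Nat.cast_smul_eq_nsmul K]
      have : ((3 : ℕ) : K) = 0 := by exact_mod_cast h3
      rw [this, zero_smul]
    rw [e3, hN, e4]
    simp
  rw [neg_pow, e2]
  norm_num

/-- **products of two elements of order 6** -/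
theorem sl2_three (h3 : (3 : K) = 0) {L U : SL(2, K)} (hL : L ∈ LT 2 K) (hU : U ∈ UT 2 K) :
    ∃ C C' : SL(2, K), L * U = C * C' ∧ NS C ∧ NS C' ∧ C'.1.trace = C.1.trace ∧ C ^ 3 = -1 ∧ C' ^ 3 = -1 := by
  obtain ⟨c, hc⟩ : ∃ c, L.1 = !![1, 0; c, 1] := by
    refine ⟨L.1 1 0, ?_⟩
    have h := mem_LT.1 hL
    ext i j
    fin_cases i <;> fin_cases j
    · exact h.2 0
    · exact h.1 0 1 (by decide)
    · rfl
    · exact h.2 1
  obtain ⟨b, hb⟩ : ∃ b, U.1 = !![1, b; 0, 1] := by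
    refine ⟨U.1 0 1, ?_⟩
    have h := mem_UT.1 hU
    ext i j
    fin_cases i <;> fin_cases j
    · exact h.2 0
    · rfl
    · exact h.1 1 0 (by decide)
    · exact h.2 1
  have key : ∀ N : SL(2, K), ∀ x y : K, x * y = 0 → N.1 = !![1, x; y, 1] → (x ≠ 0 ∨ y ≠ 0) →
      NS (-N) ∧ (-N).1.trace = -2 ∧ (-N) ^ 3 = -1 := by
    intro N x y hxy hN hne
    have e : (-N).1 = !![-1, -x; -y, -1] := by
      change -N.1 = _
      rw [hN]
      ext i j
      fin_cases i <;> fin_cases j <;> simp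
    refine ⟨?_, ?_, neg_facts h3 ?_⟩
    · rw [NS, e]
      rcases hne with h | h
      · exact Or.inr (Or.inl (by simpa using h))
      · exact Or.inl (by simpa using h)
    · rw [e, Matrix.trace_fin_two_of]; ring
    · rw [hN]
      ext i j
      fin_cases i <;> fin_cases j <;> simp [Matrix.mul_apply, Fin.sum_univ_two, hxy, mul_comm y x]
  by_cases hb0 : b = 0
  · by_cases hc0 : c = 0
    · subst hb0 hc0
      have hLU : L * U = 1 := by
        apply Subtype.ext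
        change L.1 * U.1 = 1
        rw [hc, hb, Matrix.mul_fin_two, Matrix.one_fin_two]
        simp
      obtain ⟨N, hN⟩ : ∃ N : SL(2, K), N.1 = !![1, 1; 0, 1] := ⟨uu 1, rfl⟩
      obtain ⟨N', hN'⟩ : ∃ N' : SL(2, K), N'.1 = !![1, -1; 0, 1] := ⟨uu (-1), rfl⟩
      obtain ⟨h1, h2, h4⟩ := key N 1 0 (by simp) hN (Or.inl one_ne_zero)
      obtain ⟨h1', h2', h4'⟩ := key N' (-1) 0 (by simp) hN' (Or.inl (neg_ne_zero.2 one_ne_zero))
      refine ⟨-N, -N', ?_, h1, h1', by rw [h2, h2'], h4, h4'⟩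
      rw [hLU]
      apply Subtype.ext
      change 1 = -N.1 * -N'.1
      rw [hN, hN', neg_mul_neg, Matrix.mul_fin_two, Matrix.one_fin_two]
      simp
    · subst hb0
      have hU1 : U = 1 := Subtype.ext (by rw [hb]; exact Matrix.one_fin_two.symm)
      obtain ⟨N, hN⟩ : ∃ N : SL(2, K), N.1 = !![1, 0; -c, 1] := ⟨vv (-c), rfl⟩
      obtain ⟨h1, h2, h4⟩ := key N 0 (-c) (by simp) hN (Or.inr (neg_ne_zero.2 hc0))
      refine ⟨-N, -N, ?_, h1, h1, rfl, h4, h4⟩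
      rw [hU1, mul_one]
      apply Subtype.ext
      change L.1 = -N.1 * -N.1
      rw [hN, hc, neg_mul_neg, Matrix.mul_fin_two]
      have e1 : -c * 1 + 1 * -c = c := by linear_combination (-c : K) * h3
      rw [e1]
      simp
  · by_cases hc0 : c = 0
    · subst hc0
      have hL1 : L = 1 := Subtype.ext (by rw [hc]; exact Matrix.one_fin_two.symm)
      obtain ⟨N, hN⟩ : ∃ N : SL(2, K), N.1 = !![1, -b; 0, 1] := ⟨uu (-b), rfl⟩
      obtain ⟨h1, h2, h4⟩ := key N (-b) 0 (by simp) hN (Or.inl (neg_ne_zero.2 hb0))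
      refine ⟨-N, -N, ?_, h1, h1, rfl, h4, h4⟩
      rw [hL1, one_mul]
      apply Subtype.ext
      change U.1 = -N.1 * -N.1
      rw [hN, hb, neg_mul_neg, Matrix.mul_fin_two]
      have e1 : 1 * -b + -b * 1 = b := by linear_combination (-b : K) * h3
      rw [e1]
      simp
    · obtain ⟨h1, h2, h4⟩ := key L 0 c (by simp) hc (Or.inr hc0)
      obtain ⟨h1', h2', h4'⟩ := key U b 0 (by simp) hb (Or.inl hb0)
      refine ⟨-L, -U, ?_, h1, h1', by rw [h2, h2'], h4, h4'⟩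
      rw [neg_mul_neg]

end Cfsg.Agent.H903.Ore.F4Conj
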