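import Cfsg.Agent.H903.Ore.BabyS3c
import Cfsg.Agent.H844.Ore.BType

/-!
# Row B of Ore: involutions with `TwoB` (helper903)

* `isConj` : `TwoB u` is conjugate to every involution of `L` commuting with an element of order 23;
* `of_cent` : a class invariant property of the elements of `C(z')` holds for the elements of `C(u)`;
* `isC` : the elements of `C(u)` are commutators.
-/

set_option autoImplicit false
set_option maxRecDepth 100000

open Subgroup

namespace Cfsg.Agent.H903.Ore.BabyTwoB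

open Cfsg Cfsg.Agent.H777.Ore
open Cfsg.Agent.H715.Mon.Grp (SThree)

universe u

variable {L : Type u} [Group L] [Finite L]

theorem isConj (h3 : SThree.{0}) (h : Spor.IsoB L) {u : L} (hu : H844.Ore.TwoB u) {z' : L} (hz' : orderOf z' = 2)
    (hd : 23 ∣ Nat.card (centralizer ({z'} : Set L))) : IsConj z' u := by
  obtain ⟨t₀, ht, h2, e, w, -, hw, hwt, rfl⟩ := hu
  exact BabyS3c.isConj_mk h3 h ht h2 e hw hwt hz' hd

theorem of_cent (h3 : SThree.{0}) (h : Spor.IsoB L) {P : L → Prop} (hP : ∀ g x : L, P x → P (g * x * g⁻¹))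
    (hc : ∃ z' : L, orderOf z' = 2 ∧ 23 ∣ Nat.card (centralizer ({z'} : Set L)) ∧ ∀ g, g * z' = z' * g → P g)
    {u : L} (hu : H844.Ore.TwoB u) {g : L} (hg : g * u = u * g) : P g := by
  obtain ⟨t₀, ht, h2, e, w, -, hw, hwt, rfl⟩ := hu
  exact BabyS3c.of_cent h3 h hP hc ht h2 e hw hwt hg

/-- **`TwoB u`: the elements of `C(u)` are commutators.** -/
theorem isC (h3 : SThree.{0}) (h : Spor.IsoB L) (hO : Baby.OreF23) {u : L} (hu : H844.Ore.TwoB u) {g : L}
    (hg : u * g = g * u) : IsC g := by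
  obtain ⟨t₀, ht, h2, e, w, -, hw, hwt, rfl⟩ := hu
  exact BabyS3c.isC h3 h hO ht h2 e hw hwt hg.symm

end Cfsg.Agent.H903.Ore.BabyTwoB
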