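import Cfsg.Agent.H903.Ore.Baby
import Cfsg.Agent.H715.Mon.Exact
import Cfsg.Agent.MonsterN.FusInst

/-!
# Row B of Ore: the 2B involutions of the Baby Monster in the centralizer of a 2A involution of the Monster (helper903)

`t₀` in the class 2A of the Monster, `w ∈ C(t₀)` conjugate to `z` with `w t₀` in 2A:

* `exists_23` : an element of order 23 commutes with `t₀` and `w`;
* `isConj_of_23` : in `B` two involutions commuting with elements of order 23 are conjugate;
* `isConj_mk` : the image of `w` in `C(t₀) / ⟨t₀⟩ ≅ B` is conjugate to every such involution;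
* `isC` : every element of `B` commuting with the image of `w` is a commutator.

`SThree.{0}` is `fun _ _ _ X hX hC => S3331.result X hX hC`.
-/

set_option autoImplicit false
set_option maxRecDepth 100000

open Subgroup

namespace Cfsg.Agent.H903.Ore.BabyS3c

open Cfsg Cfsg.Agent.MonsterX Cfsg.Agent.MonsterX.InstData Cfsg.Agent.MonsterX.MainPack Cfsg.Agent.MonsterU
open Cfsg.Agent.MonsterP Cfsg.Agent.MonsterN
open Cfsg.Agent.MonsterX.MainBasic Cfsg.Agent.MonsterX.MainSimple Cfsg.Agent.MonsterX.Model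
open Cfsg.Agent.MonsterX.KSide Cfsg.Agent.MonsterX.KLift Cfsg.Agent.MonsterN.LitInst
open Cfsg.Agent.LThreeB.Row (TA)
open Cfsg.Agent.H777.Ore
open Cfsg.Agent.H715.Mon.Grp (SThree)

universe u

/-- the Monster -/
abbrev Mn : Type := ↥InstData.M.G

theorem finite_Mn : Finite Mn := MThirteen.Row.finite

theorem prime23 : Nat.Prime 23 := by norm_num

/-! ### The Monster -/

/-- an element of order 23 commuting with `z` and with a short element of `Q` -/
theorem std : ∃ s ∈ KDone.K.Sh, ∃ x : Mn, orderOf x = 23 ∧ x * KDone.K.z = KDone.K.z * x ∧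
    x * KDone.K.ι s = KDone.K.ι s * x := by
  have := finite_Mn
  have hF : Fact (Nat.Prime 23) := ⟨prime23⟩
  obtain ⟨x, hx⟩ := exists_prime_orderOf_dvd_card' (G := centralizer ({KDone.K.z} : Set Mn)) 23
    (by rw [H241.Mon.card_cz]; norm_num)
  have hxz : (x : Mn) * KDone.K.z = KDone.K.z * x := mem_centralizer_singleton_iff.1 x.2
  obtain ⟨A, α, T, hA⟩ := KDone.K.acts _ (LitInst.hcent KDone.lnk LitFin.all _ hxz)
  obtain ⟨_, ⟨s, hs, rfl⟩, h⟩ := H241.Mon.exists_fixed prime23 (y := (x : Mn)) (by rw [Subgroup.orderOf_coe, hx])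
    (KDone.K.ι '' KDone.K.Sh) (by
      rintro _ ⟨s, hs, rfl⟩
      exact ⟨α s, hA.act_sh s hs, by rw [conj_ι hA, mul_inv_cancel_right]⟩) (by
      rw [Nat.card_coe_set_eq, Set.ncard_image_of_injective _ (InvTwo.ι_inj KDone.lft), Sh_ncard]
      norm_num)
  exact ⟨s, hs, x, by rw [Subgroup.orderOf_coe, hx], hxz, h⟩

theorem ta_iota {s} (hs : s ∈ KDone.K.Sh) : TA (KDone.K.ι s) := by
  obtain ⟨g, hg⟩ := ModelB.exists_conj_t LitFin.all.hG LitFin.all.hR KDone.lnk KDone.lft hs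
  exact isConj_iff.2 ⟨g, hg⟩

theorem not_ta_z : ¬ TA KDone.K.z := by
  intro h
  obtain ⟨t, ht, h2, ⟨e⟩⟩ := H979.OddB.exists_cover (L := Spor.BabyMonster) ⟨MulEquiv.refl _⟩
  have h3 := (center ↥(centralizer ({t} : Set Mn))).card_eq_card_quotient_mul_card_subgroup
  rw [h2, Nat.card_congr e.toEquiv, NotCT.Orders.b ⟨MulEquiv.refl _⟩] at h3
  have h5 := Cfsg.Agent.Blocks.SylowIn.card_centralizer_of_isConj (IsConj.trans (IsConj.symm ht) h)
  rw [h3, H241.Mon.card_cz] at h5
  norm_num at h5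

theorem not_ta {w : Mn} (hw : IsConj KDone.K.z w) : ¬ TA w := fun h => not_ta_z (IsConj.trans h hw.symm)

/-- the 2B elements `w` of `C(ι s)` with `w ι s` in 2A are conjugate -/
theorem conj_z {s} (hs : s ∈ KDone.K.Sh) {w : BB KDone.K s} (hw : IsConj KDone.K.z (w : Mn))
    (h : TA ((w : Mn) * KDone.K.ι s)) : ∃ k : BB KDone.K s, (w : Mn) = k * KDone.K.z * (k : Mn)⁻¹ := by
  obtain ⟨f₁, f₂, f₃, f₄, F, hz, hd, p, hp, hp2, -⟩ := FusInst.exists_facts LitFin.all KDone.lnk KDone.lft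
    (TauInst.tauHyp (Final.cent InstanceFinal.mOrbit Instance.mTrans)) hs
  have hzz : KDone.K.z * KDone.K.z = 1 := H979.BAdj.chart.large.z_sq
  have hww' : (w : Mn) * w = 1 := FusionType.conj_sq hw hzz
  have hww : w * w = 1 := Subtype.ext hww'
  have hz1 : KDone.K.z ≠ 1 := H979.BAdj.chart.large.z_ne
  have hw1 : w ≠ 1 := by
    rintro rfl
    exact hz1 (isConj_one_left.1 hw)
  have hts : ((tb KDone.K s : BB KDone.K s) : Mn) = KDone.K.ι s := rfl
  have hwt : w ≠ tb KDone.K s := by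
    rintro rfl
    exact not_ta hw (ta_iota hs)
  have hzm : KDone.K.z ∈ BB KDone.K s := mem_centralizer_singleton_iff.2 (by
    show KDone.K.ι KDone.K.zc * KDone.K.ι s = KDone.K.ι s * KDone.K.ι KDone.K.zc
    rw [← map_mul, ← map_mul, KDone.K.zc_comm])
  have hcz : IsConj KDone.K.z ((tb KDone.K s * (f₁ * f₂) : BB KDone.K s) : Mn) :=
    ((BB KDone.K s).subtype.map_isConj (hz hzm)).symm
  have hmul : (w : Mn) * KDone.K.ι s = ((tb KDone.K s * w : BB KDone.K s) : Mn) := by
    rw [← F.cen]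
    rfl
  rw [hmul] at h
  rcases F.classes w hww hw1 hwt with h1 | h1 | h1 | h1
  · exfalso
    refine not_ta hw ?_
    have h2 : IsConj (f₁ : Mn) (w : Mn) := (BB KDone.K s).subtype.map_isConj h1
    rw [hp] at h2
    exact IsConj.trans (ta_iota ((TwoCls.mem_Sh_iff KDone.lft p).2 hp2)) h2
  · exfalso
    exact not_ta (hcz.trans ((BB KDone.K s).subtype.map_isConj (FusionType.conj_mul_t F.cen h1))) h
  · obtain ⟨k, hk⟩ := isConj_iff.1 ((hz hzm).symm.trans h1)
    refine ⟨k, ?_⟩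
    rw [← hk]
    rfl
  · exfalso
    exact not_ta (hd.trans ((BB KDone.K s).subtype.map_isConj (F.d_t.trans (FusionType.conj_mul_t F.cen h1)))) h

/-- **An element of order 23 commuting with `t₀` and `w`.** -/
theorem exists_23 {t₀ w : Mn} (ht : TA t₀) (hw : IsConj KDone.K.z w) (hwt : w * t₀ = t₀ * w) (h : TA (w * t₀)) :
    ∃ x : Mn, orderOf x = 23 ∧ x * t₀ = t₀ * x ∧ x * w = w * x := by
  obtain ⟨s, hs, y, hy, hyz, hys⟩ := std
  obtain ⟨g, hg⟩ := isConj_iff.1 (IsConj.trans (IsConj.symm ht) (ta_iota hs))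
  have hc : (g * w * g⁻¹) * KDone.K.ι s = KDone.K.ι s * (g * w * g⁻¹) := by
    rw [← hg]
    calc g * w * g⁻¹ * (g * t₀ * g⁻¹) = g * (w * t₀) * g⁻¹ := by group
      _ = g * (t₀ * w) * g⁻¹ := by rw [hwt]
      _ = _ := by group
  obtain ⟨k, hk⟩ := conj_z hs (w := ⟨g * w * g⁻¹, mem_centralizer_singleton_iff.2 hc⟩)
    (hw.trans (isConj_iff.2 ⟨g, rfl⟩)) (IsConj.trans h (isConj_iff.2 ⟨g, by
      show g * (w * t₀) * g⁻¹ = g * w * g⁻¹ * KDone.K.ι s
      rw [← hg]
      group⟩))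
  have hk' : g * w * g⁻¹ = (k : Mn) * KDone.K.z * (k : Mn)⁻¹ := hk
  have hks : (k : Mn) * KDone.K.ι s = KDone.K.ι s * k := mem_centralizer_singleton_iff.1 k.2
  have hw' : w = g⁻¹ * (k * KDone.K.z * (k : Mn)⁻¹) * g := by rw [← hk']; group
  have ht' : t₀ = g⁻¹ * KDone.K.ι s * g := by rw [← hg]; group
  have hks' : KDone.K.ι s = (k : Mn) * KDone.K.ι s * (k : Mn)⁻¹ := by rw [hks]; group
  refine ⟨g⁻¹ * (k * y * (k : Mn)⁻¹) * g, ?_, ?_, ?_⟩
  · have e : g⁻¹ * (k * y * (k : Mn)⁻¹) * g = MulAut.conj (g⁻¹ * k) y := by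
      rw [MulAut.conj_apply]
      group
    rw [e, MulEquiv.orderOf_eq, hy]
  · rw [ht', hks']
    calc g⁻¹ * (k * y * (k : Mn)⁻¹) * g * (g⁻¹ * (k * KDone.K.ι s * (k : Mn)⁻¹) * g) =
        g⁻¹ * k * (y * KDone.K.ι s) * (k : Mn)⁻¹ * g := by group
      _ = g⁻¹ * k * (KDone.K.ι s * y) * (k : Mn)⁻¹ * g := by rw [hys]
      _ = _ := by group
  · rw [hw']
    calc g⁻¹ * (k * y * (k : Mn)⁻¹) * g * (g⁻¹ * (k * KDone.K.z * (k : Mn)⁻¹) * g) =
        g⁻¹ * k * (y * KDone.K.z) * (k : Mn)⁻¹ * g := by group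
      _ = g⁻¹ * k * (KDone.K.z * y) * (k : Mn)⁻¹ * g := by rw [hyz]
      _ = _ := by group

/-! ### The Baby Monster -/

/-- a group of order `2 r`, `r` odd, with a central element of order `r` has one involution -/
theorem eq_of_central {C : Type*} [Group C] [Finite C] {r : ℕ} (hr : Odd r) (hC : Nat.card C = 2 * r) {y : C}
    (hy : orderOf y = r) (hc : ∀ g : C, g * y = y * g) {a b : C} (ha : a * a = 1) (hb : b * b = 1) (ha1 : a ≠ 1)
    (hb1 : b ≠ 1) : a = b := by
  have hr0 : 0 < r := hr.pos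
  have hi : (zpowers y).index = 2 := by
    have h1 := (zpowers y).card_mul_index
    rw [Nat.card_zpowers, hy, hC, mul_comm 2 r] at h1
    exact Nat.eq_of_mul_eq_mul_left hr0 h1
  have hodd : ∀ c : C, c * c = 1 → c ∈ zpowers y → c = 1 := by
    intro c hc hcy
    have h1 : orderOf c ∣ 2 := orderOf_dvd_of_pow_eq_one (by rw [pow_two, hc])
    have h2 : orderOf c ∣ r := by
      have h3 : orderOf (⟨c, hcy⟩ : zpowers y) ∣ Nat.card (zpowers y) := orderOf_dvd_natCard _
      rwa [Subgroup.orderOf_mk, Nat.card_zpowers, hy] at h3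
    have h3 : orderOf c ∣ 1 := by
      have h4 := Nat.dvd_gcd h1 h2
      rwa [(Nat.coprime_two_left.2 hr).gcd_eq_one] at h4
    rwa [Nat.dvd_one, orderOf_eq_one_iff] at h3
  have hab : a * b ∈ zpowers y := (mul_mem_iff_of_index_two hi).2
    ⟨fun h => absurd (hodd a ha h) ha1, fun h => absurd (hodd b hb h) hb1⟩
  have hcom : a * (a * b) = a * b * a := by
    obtain ⟨i, hi⟩ := mem_zpowers_iff.1 hab
    rw [← hi]
    exact ((show Commute a y from hc a).zpow_right i).eq
  have h1 : b = a * b * a := by rw [← hcom, ← mul_assoc, ha, one_mul]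
  have h2 : a * b * (a * b) = 1 := by rw [← mul_assoc, ← h1, hb]
  have h3 := hodd _ h2 hab
  have h4 : a⁻¹ = b := inv_eq_of_mul_eq_one_right h3
  rw [← h4]
  exact (inv_eq_of_mul_eq_one_left ha).symm

section

variable {L : Type u} [Group L] [Finite L]

/-- **two involutions commuting with elements of order 23 are conjugate** -/
theorem isConj_of_23 (h3 : SThree.{0}) (h : Spor.IsoB L) {a b : L} (ha : orderOf a = 2) (hb : orderOf b = 2)
    (h1 : 23 ∣ Nat.card (centralizer ({a} : Set L))) (h2 : 23 ∣ Nat.card (centralizer ({b} : Set L))) :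
    IsConj a b := by
  have hF : Fact (Nat.Prime 23) := ⟨prime23⟩
  obtain ⟨x, hx⟩ := exists_prime_orderOf_dvd_card' 23 h1
  obtain ⟨y, hy⟩ := exists_prime_orderOf_dvd_card' 23 h2
  have hx' : orderOf (x : L) = 23 := by rw [Subgroup.orderOf_coe, hx]
  have hy' : orderOf (y : L) = 23 := by rw [Subgroup.orderOf_coe, hy]
  have hxa : (x : L) * a = a * x := mem_centralizer_singleton_iff.1 x.2
  have hyb : (y : L) * b = b * y := mem_centralizer_singleton_iff.1 y.2
  obtain ⟨g, -, hg⟩ := H241.Mon.conj_of_not_sq prime23 (by rw [NotCT.Orders.b h]; norm_num) hy' hx'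
  obtain ⟨i, hi⟩ := mem_zpowers_iff.1 hg
  have hya : g * a * g⁻¹ * (y : L) = y * (g * a * g⁻¹) := by
    rw [← hi]
    have h3 : Commute (g * a * g⁻¹) (g * x * g⁻¹) := by
      show g * a * g⁻¹ * (g * x * g⁻¹) = g * x * g⁻¹ * (g * a * g⁻¹)
      calc g * a * g⁻¹ * (g * x * g⁻¹) = g * (a * x) * g⁻¹ := by group
        _ = g * (x * a) * g⁻¹ := by rw [hxa]
        _ = _ := by group
    exact (h3.zpow_right i).eq
  have hC := H715.Mon.Exact.B.cent23 h3 h hy'
  have hsq : ∀ c : L, orderOf c = 2 → c * c = 1 := fun c hc => by rw [← pow_two, ← hc, pow_orderOf_eq_one]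
  have hne : ∀ c : L, orderOf c = 2 → c ≠ 1 := by
    rintro c hc rfl
    rw [orderOf_one] at hc
    norm_num at hc
  have hga : orderOf (g * a * g⁻¹) = 2 := by
    rw [← ha]
    exact MulEquiv.orderOf_eq (MulAut.conj g) a
  have h4 := eq_of_central (C := centralizer ({(y : L)} : Set L)) (r := 23) (by decide) (by rw [hC])
    (y := ⟨(y : L), mem_centralizer_singleton_iff.2 rfl⟩) (by rw [Subgroup.orderOf_mk, hy'])
    (fun c => Subtype.ext (mem_centralizer_singleton_iff.1 c.2))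
    (a := ⟨g * a * g⁻¹, mem_centralizer_singleton_iff.2 hya⟩) (b := ⟨b, mem_centralizer_singleton_iff.2 hyb.symm⟩)
    (Subtype.ext (hsq _ hga)) (Subtype.ext (hsq _ hb)) (fun h5 => hne _ hga (congrArg Subtype.val h5))
    (fun h5 => hne _ hb (congrArg Subtype.val h5))
  exact isConj_iff.2 ⟨g, congrArg Subtype.val h4⟩

/-- **The image of `w`** is conjugate to every involution commuting with an element of order 23. -/
theorem isConj_mk (h3 : SThree.{0}) (h : Spor.IsoB L) {t₀ : Mn} (ht : TA t₀)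
    (h2 : Nat.card ↥(center ↥(centralizer ({t₀} : Set Mn))) = 2)
    (e : ↥(centralizer ({t₀} : Set Mn)) ⧸ center ↥(centralizer ({t₀} : Set Mn)) ≃* L)
    {w : ↥(centralizer ({t₀} : Set Mn))} (hw : IsConj KDone.K.z (w : Mn)) (hwt : TA ((w : Mn) * t₀)) {z' : L}
    (hz' : orderOf z' = 2) (hd : 23 ∣ Nat.card (centralizer ({z'} : Set L))) : IsConj z' (e (QuotientGroup.mk w)) := by
  have := finite_Mn
  have hF : Fact (Nat.Prime 23) := ⟨prime23⟩
  obtain ⟨x, hx, hxt, hxw⟩ := exists_23 ht hw (mem_centralizer_singleton_iff.1 w.2) hwt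
  have hww : w * w = 1 := Subtype.ext (FusionType.conj_sq hw H979.BAdj.chart.large.z_sq)
  -- `w ∉ ⟨t₀⟩`
  have hwc : w ∉ center ↥(centralizer ({t₀} : Set Mn)) := by
    intro hwc
    have ht2 : orderOf t₀ = 2 := MThirteen.Row.ta_order ht
    have htt : t₀ * t₀ = 1 := by rw [← pow_two, ← ht2, pow_orderOf_eq_one]
    have ht1 : t₀ ≠ 1 := by
      rintro rfl
      rw [orderOf_one] at ht2
      norm_num at ht2
    have hw1 : (w : Mn) ≠ 1 := fun h3 => H979.BAdj.chart.large.z_ne (isConj_one_left.1 (h3 ▸ hw))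
    have hcen : (⟨t₀, mem_centralizer_singleton_iff.2 rfl⟩ : centralizer ({t₀} : Set Mn)) ∈
        center ↥(centralizer ({t₀} : Set Mn)) := by
      rw [mem_center_iff]
      intro g
      exact Subtype.ext (mem_centralizer_singleton_iff.1 g.2)
    have h3 := eq_of_central (C := center ↥(centralizer ({t₀} : Set Mn))) (r := 1) (by decide) (by rw [h2]) (y := 1)
      orderOf_one (fun g => by rw [mul_one, one_mul]) (a := ⟨w, hwc⟩) (b := ⟨_, hcen⟩) (Subtype.ext hww)
      (Subtype.ext (Subtype.ext htt)) (fun h4 => hw1 (congrArg (fun c => ((Subtype.val c : ↥(centralizer ({t₀} : Set Mn))) : Mn)) h4))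
      (fun h4 => ht1 (congrArg (fun c => ((Subtype.val c : ↥(centralizer ({t₀} : Set Mn))) : Mn)) h4))
    have h4 : (w : Mn) = t₀ := congrArg (fun c => ((Subtype.val c : ↥(centralizer ({t₀} : Set Mn))) : Mn)) h3
    rw [h4] at hw
    exact not_ta hw ht
  have hu : orderOf (e (QuotientGroup.mk w)) = 2 := by
    refine orderOf_eq_prime ?_ ?_
    · rw [pow_two, ← map_mul, ← QuotientGroup.mk_mul, hww, QuotientGroup.mk_one, map_one]
    · intro h3
      rw [← map_one e] at h3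
      exact hwc ((QuotientGroup.eq_one_iff _).1 (e.injective h3))
  refine isConj_of_23 h3 h hz' hu hd ?_
  have hxm : (⟨x, mem_centralizer_singleton_iff.2 hxt⟩ : centralizer ({t₀} : Set Mn)) ^ 23 = 1 :=
    Subtype.ext (by
      show x ^ 23 = 1
      rw [← hx, pow_orderOf_eq_one])
  have ho : orderOf (e (QuotientGroup.mk ⟨x, mem_centralizer_singleton_iff.2 hxt⟩)) = 23 := by
    refine orderOf_eq_prime ?_ ?_
    · rw [← map_pow, ← QuotientGroup.mk_pow, hxm, QuotientGroup.mk_one, map_one]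
    · intro h3
      rw [← map_one e] at h3
      have h4 := (QuotientGroup.eq_one_iff _).1 (e.injective h3)
      have h5 : 23 ∣ 2 := by
        rw [← h2, ← hx, ← Subgroup.orderOf_mk x (mem_centralizer_singleton_iff.2 hxt), ← Subgroup.orderOf_mk _ h4]
        exact orderOf_dvd_natCard _
      norm_num at h5
  rw [← ho, ← Subgroup.orderOf_mk (H := centralizer ({e (QuotientGroup.mk w)} : Set L))
    (e (QuotientGroup.mk ⟨x, mem_centralizer_singleton_iff.2 hxt⟩)) (mem_centralizer_singleton_iff.2 (by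
      rw [← map_mul, ← map_mul, ← QuotientGroup.mk_mul, ← QuotientGroup.mk_mul]
      exact congrArg (fun c => e (QuotientGroup.mk c)) (Subtype.ext hxw)))]
  exact orderOf_dvd_natCard _

/-- a class invariant property of the elements of `C(z')` -/
theorem of_cent (h3 : SThree.{0}) (h : Spor.IsoB L) {P : L → Prop} (hP : ∀ g x : L, P x → P (g * x * g⁻¹))
    (hc : ∃ z' : L, orderOf z' = 2 ∧ 23 ∣ Nat.card (centralizer ({z'} : Set L)) ∧ ∀ g, g * z' = z' * g → P g)
    {t₀ : Mn} (ht : TA t₀)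
    (h2 : Nat.card ↥(center ↥(centralizer ({t₀} : Set Mn))) = 2)
    (e : ↥(centralizer ({t₀} : Set Mn)) ⧸ center ↥(centralizer ({t₀} : Set Mn)) ≃* L)
    {w : ↥(centralizer ({t₀} : Set Mn))} (hw : IsConj KDone.K.z (w : Mn)) (hwt : TA ((w : Mn) * t₀)) {g : L}
    (hg : g * e (QuotientGroup.mk w) = e (QuotientGroup.mk w) * g) : P g := by
  obtain ⟨z', hz', hd, hz⟩ := hc
  obtain ⟨k, hk⟩ := isConj_iff.1 (isConj_mk h3 h ht h2 e hw hwt hz' hd)
  have h1 := hz (k⁻¹ * g * k) (by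
    have e1 : z' = k⁻¹ * e (QuotientGroup.mk w) * k := by rw [← hk]; group
    rw [e1]
    calc k⁻¹ * g * k * (k⁻¹ * e (QuotientGroup.mk w) * k) = k⁻¹ * (g * e (QuotientGroup.mk w)) * k := by group
      _ = k⁻¹ * (e (QuotientGroup.mk w) * g) * k := by rw [hg]
      _ = _ := by group)
  have h3 := hP k _ h1
  have e2 : k * (k⁻¹ * g * k) * k⁻¹ = g := by group
  rwa [e2] at h3

/-- **Piece S3c**: the elements commuting with the image of `w` are commutators. -/
theorem isC (h3 : SThree.{0}) (h : Spor.IsoB L) (hO : Baby.OreF23) {t₀ : Mn} (ht : TA t₀)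
    (h2 : Nat.card ↥(center ↥(centralizer ({t₀} : Set Mn))) = 2)
    (e : ↥(centralizer ({t₀} : Set Mn)) ⧸ center ↥(centralizer ({t₀} : Set Mn)) ≃* L)
    {w : ↥(centralizer ({t₀} : Set Mn))} (hw : IsConj KDone.K.z (w : Mn)) (hwt : TA ((w : Mn) * t₀)) {g : L}
    (hg : g * e (QuotientGroup.mk w) = e (QuotientGroup.mk w) * g) : IsC g := by
  obtain ⟨z', hz', hd, hz⟩ := Baby.cent_B h hO
  exact of_cent h3 h (fun k x hx => hx.conj k) ⟨z', hz', by rw [hd]; norm_num, hz⟩ ht h2 e hw hwt hg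

end

end Cfsg.Agent.H903.Ore.BabyS3c
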