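import Cfsg.Agent.H6.ORE.LargeOre
import Cfsg.Agent.S0752
import Cfsg.Agent.H777.Ore.Base

/-!
# Commutators in `C(z)`, `Q = O₂(C(z))` extraspecial (S2443, helper903)

* `fix_aux` : an isometry of prime order `r` of a symplectic space of dimension `n` over `𝔽₂`; if `2 ^ n ≡ 2 ^ k` modulo
  `r`, `k` even, only for `k = 0` and `k = n`, then it has no fixed points;
* `fpf` : an element of `C(z)` of order `r` modulo `Q` has no fixed points on `Q/⟨z⟩`;
* `isC_out` : `π g = [a₀, b₀] ≠ 1` with an element of order `r` in `⟨a₀, b₀⟩`: `g` is a commutator;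
* `isC_in` : the elements of `Q` are commutators;
* `allC_cent`, `isC_two`.
-/

set_option autoImplicit false

namespace Cfsg.Agent.H903.Ore.Large

open Cfsg.Agent.Co2Type.Quad (Large)
open Cfsg.Agent.H6.ORE Cfsg.Agent.H777.Ore
open Module (finrank)

universe u

/-- the arithmetic condition -/
def Ar (r n : ℕ) : Prop := ∀ k ≤ n, Even k → 2 ^ n ≡ 2 ^ k [MOD r] → k = 0 ∨ k = n

instance (r n : ℕ) : Decidable (Ar r n) := by unfold Ar; infer_instance

theorem ar_23_22 : Ar 23 22 := by decide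

theorem even_finrank {V : Type*} [AddCommGroup V] [Module (ZMod 2) V] [FiniteDimensional (ZMod 2) V]
    (B : LinearMap.BilinForm (ZMod 2) V) (hA : B.IsAlt) (hnd : ∀ u, (∀ v, B u v = 0) → u = 0) :
    Even (finrank (ZMod 2) V) := by
  obtain ⟨m, k, b, h1, h2, h3, h4⟩ := S0752.result B hA
  have hk : k = 0 := by
    by_contra hk
    have := hnd _ (h4 ⟨0, Nat.pos_of_ne_zero hk⟩)
    exact b.ne_zero _ this
  subst hk
  rw [Module.finrank_eq_card_basis b, Fintype.card_sum, Fintype.card_sum, Fintype.card_fin, Fintype.card_fin]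
  exact ⟨m, rfl⟩

/-- **Fixed points of an isometry of prime order.** -/
theorem fix_aux {V : Type u} [AddCommGroup V] [Module (ZMod 2) V] [Finite V] (B : LinearMap.BilinForm (ZMod 2) V)
    (hA : ∀ v, B v v = 0) (hnd : ∀ v, (∀ w, B v w = 0) → v = 0) (α : V ≃ₗ[ZMod 2] V)
    (hα : ∀ v w, B (α v) (α w) = B v w) {r n : ℕ} (hr : r.Prime) (hodd : Odd r) (hαr : α ^ r = 1)
    (hn : Nat.card V = 2 ^ n) (har : Ar r n) : α = 1 ∨ ∀ v, α v = v → v = 0 := by
  have : Fact r.Prime := ⟨hr⟩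
  have : FiniteDimensional (ZMod 2) V := Module.Finite.of_finite
  obtain ⟨F, hF⟩ : ∃ F : Submodule (ZMod 2) V, F = LinearMap.ker (α.toLinearMap - LinearMap.id) := ⟨_, rfl⟩
  have hmem : ∀ v, v ∈ F ↔ α v = v := by
    intro v
    rw [hF, LinearMap.mem_ker, LinearMap.sub_apply, sub_eq_zero]
    rfl
  -- the form on the fixed points
  have hpow : ∀ (i : ℕ) (v w : V), B ((α ^ i) v) ((α ^ i) w) = B v w := by
    intro i
    induction i with
    | zero => intro v w; rfl
    | succ i ih => intro v w; rw [pow_succ]; exact (ih _ _).trans (hα v w)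
  have hpf : ∀ (i : ℕ) (v : V), v ∈ F → (α ^ i) v = v := by
    intro i v hv
    induction i with
    | zero => rfl
    | succ i ih =>
      rw [pow_succ]
      show (α ^ i) (α v) = v
      rw [(hmem v).1 hv, ih]
  have hN : ∀ v, (∑ i ∈ Finset.range r, (α ^ i) v) ∈ F := by
    intro v
    rw [hmem, map_sum]
    have h1 : ∀ i, α ((α ^ i) v) = (α ^ (i + 1)) v := fun i => by rw [pow_succ']; rfl
    simp_rw [h1]
    have h2 := Finset.sum_range_succ (fun i => (α ^ i) v) r
    have h3 := Finset.sum_range_succ' (fun i => (α ^ i) v) r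
    rw [h2, hαr] at h3
    have h4 : (1 : V ≃ₗ[ZMod 2] V) v = (α ^ 0) v := by rw [pow_zero]
    rw [h4] at h3
    exact (add_right_cancel h3).symm
  have hBN : ∀ f ∈ F, ∀ v, B f (∑ i ∈ Finset.range r, (α ^ i) v) = B f v := by
    intro f hf v
    rw [map_sum]
    have h1 : ∀ i ∈ Finset.range r, B f ((α ^ i) v) = B f v := by
      intro i _
      have := hpow i f v
      rwa [hpf i f hf] at this
    rw [Finset.sum_congr rfl h1, Finset.sum_const, Finset.card_range, nsmul_eq_mul]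
    have h2 : (r : ZMod 2) = 1 := by
      obtain ⟨m, rfl⟩ := hodd
      push_cast
      have : (2 : ZMod 2) = 0 := rfl
      rw [this, zero_mul, zero_add]
    rw [h2, one_mul]
  have heven : Even (finrank (ZMod 2) F) := by
    refine even_finrank (B.restrict F) (fun v => hA v) fun f hf => ?_
    apply Subtype.ext
    apply hnd
    intro v
    rw [← hBN f f.2 v]
    exact hf ⟨_, hN v⟩
  have hcF : Nat.card F = 2 ^ finrank (ZMod 2) F := by
    rw [Module.natCard_eq_pow_finrank (K := ZMod 2), Nat.card_zmod]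
  have hle : finrank (ZMod 2) F ≤ n := by
    have h1 : Nat.card V = 2 ^ finrank (ZMod 2) V := by
      rw [Module.natCard_eq_pow_finrank (K := ZMod 2), Nat.card_zmod]
    rw [hn] at h1
    have h2 : n = finrank (ZMod 2) V := Nat.pow_right_injective (le_refl 2) h1
    rw [h2]
    exact Submodule.finrank_le F
  have hG : IsPGroup r (Subgroup.zpowers α) := by
    rintro ⟨a, k, rfl⟩
    refine ⟨1, Subtype.ext ?_⟩
    show (α ^ k) ^ r ^ 1 = 1
    rw [pow_one, ← zpow_natCast, ← zpow_mul, mul_comm, zpow_mul, zpow_natCast, hαr, one_zpow]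
  have hmod := hG.card_modEq_card_fixedPoints V
  have hfix : Nat.card (MulAction.fixedPoints (Subgroup.zpowers α) V) = Nat.card F := by
    refine Nat.card_congr (Equiv.subtypeEquivRight fun v => ?_)
    rw [hmem, MulAction.mem_fixedPoints]
    constructor
    · intro h
      exact h ⟨α, Subgroup.mem_zpowers α⟩
    · rintro h ⟨a, k, rfl⟩
      have h1 : α ∈ MulAction.stabilizer (V ≃ₗ[ZMod 2] V) v := h
      exact zpow_mem h1 k
  rw [hfix, hcF, hn] at hmod
  rcases har _ hle heven hmod with h0 | h0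
  · right
    intro v hv
    have h1 : F = ⊥ := Submodule.finrank_eq_zero.1 h0
    have h2 := (hmem v).2 hv
    rwa [h1, Submodule.mem_bot] at h2
  · left
    have h1 : Nat.card F = Nat.card V := by rw [hcF, h0, hn]
    have h2 : F = ⊤ := by
      rw [eq_top_iff]
      intro v _
      have h3 : Function.Surjective (Subtype.val : F → V) :=
        ((Nat.bijective_iff_injective_and_card _).2 ⟨Subtype.val_injective, h1⟩).2
      obtain ⟨w, rfl⟩ := h3 v
      exact w.2
    ext v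
    exact (hmem v).1 (h2 ▸ Submodule.mem_top)

section

variable {K : Type u} [Group K] {Q : Subgroup K} {z : K}

/-- **An element of order `r` modulo `Q` has no fixed points on `Q/⟨z⟩`.** -/
theorem fpf [Finite Q] (h : Large Q z) {r n : ℕ} (hr : r.Prime) (hodd : Odd r) (hcard : Nat.card Q = 2 ^ (n + 1))
    (har : Ar r n) {g : CZ z} (hg : ((g ^ r : CZ z) : K) ∈ Q) (hg' : (g : K) ∉ Q) {v : h.V} (hv : h.act g v = v) :
    v = 0 := by
  have hV : Nat.card h.V = 2 ^ n := by
    have h1 := h.card_eq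
    rw [hcard, pow_succ] at h1
    omega
  rcases fix_aux h.b h.b_self (fun v hv => h.b_nondeg hv) (h.act g) (h.b_act g) hr hodd
    (by rw [← map_pow]; exact h.act_mem _ hg) hV har with h1 | h1
  · exact absurd (h.mem_of_act g h1) hg'
  · exact h1 v hv

variable {L : Type*} [Group L] {π : CZ z →* L}

theorem finQ [Finite Q] : Finite (Q.subgroupOf (CZ z)) := by
  refine Finite.of_injective (fun x : Q.subgroupOf (CZ z) => (⟨(x : CZ z), x.2⟩ : Q)) fun x y e => ?_
  have e' : ((x : CZ z) : K) = ((y : CZ z) : K) := congrArg (fun t : Q => (t : K)) e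
  exact Subtype.ext (Subtype.ext e')

/-- the vector of a fixed element -/
theorem act_fix (h : Large Q z) (c : CZ z) {x : Q}
    (hc : (c : K) * x * (c : K)⁻¹ = x ∨ (c : K) * x * (c : K)⁻¹ = x * z) : h.act c (h.pr x) = h.pr x := by
  rw [h.act_pr, h.pr_eq_pr]
  exact hc

/-- **Elements outside `Q`.** -/
theorem isC_out [Finite Q] (h : Large Q z) (hs : Function.Surjective π) (hk : ∀ c, π c = 1 ↔ (c : K) ∈ Q)
    {r n : ℕ} (hr : r.Prime) (hodd : Odd r) (hcard : Nat.card Q = 2 ^ (n + 1)) (har : Ar r n) {g : CZ z}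
    (hg : π g ≠ 1) {a₀ b₀ : L} (e : π g = a₀ * b₀ * a₀⁻¹ * b₀⁻¹) {y : L}
    (hy : y ∈ Subgroup.closure ({a₀, b₀} : Set L)) (hyr : orderOf y = r) : IsC (g : K) := by
  have hE := es_of_large h
  have hfin : Finite (Q.subgroupOf (CZ z)) := finQ
  obtain ⟨a, rfl⟩ := hs a₀
  obtain ⟨b, rfl⟩ := hs b₀
  -- a lift of `y`
  obtain ⟨d, hd, rfl⟩ : y ∈ (Subgroup.closure ({a, b} : Set (CZ z))).map π := by
    rw [MonoidHom.map_closure, Set.image_pair]
    exact hy
  have hd1 : ((d ^ r : CZ z) : K) ∈ Q := by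
    rw [← hk, map_pow, ← hyr, pow_orderOf_eq_one]
  have hd2 : (d : K) ∉ Q := by
    intro hdQ
    rw [← hk] at hdQ
    rw [hdQ, orderOf_one] at hyr
    exact hr.one_lt.ne hyr
  have hfp : FPz (Q.subgroupOf (CZ z)) (zC z) a b := by
    apply FPz.of_fix hE
    intro x hx hxa hxb
    have hxQ : (x : K) ∈ Q := hx
    have h1 := act_fix h a (x := ⟨x, hxQ⟩) (hxa.imp (congrArg Subtype.val) (congrArg Subtype.val))
    have h2 := act_fix h b (x := ⟨x, hxQ⟩) (hxb.imp (congrArg Subtype.val) (congrArg Subtype.val))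
    have h3 : Subgroup.closure ({a, b} : Set (CZ z)) ≤
        (MulAction.stabilizer (h.V ≃ₗ[ZMod 2] h.V) (h.pr ⟨x, hxQ⟩)).comap h.act := by
      rw [Subgroup.closure_le]
      rintro _ (rfl | rfl)
      · exact h1
      · exact h2
    have h4 : h.act d (h.pr ⟨x, hxQ⟩) = h.pr ⟨x, hxQ⟩ := h3 hd
    have h5 := fpf h hr hodd hcard har hd1 hd2 h4
    rcases h.pr_eq_zero.1 h5 with h6 | h6
    · exact Or.inl (Subtype.ext h6)
    · exact Or.inr (Subtype.ext h6)
  have hgQ : (g : K) ∉ Q := fun hh => hg ((hk g).2 hh)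
  obtain ⟨q₁, -, q₂, -, e'⟩ := hE.step hfp (c := g) (by
    show ((g * (a * b * a⁻¹ * b⁻¹)⁻¹ : CZ z) : K) ∈ Q
    rw [← hk, map_mul, e]
    simp) (by
    by_contra hno
    push Not at hno
    apply hgQ
    apply Cfsg.Agent.KFacts.LargeO2.mem_of_triv h (Subgroup.mem_centralizer_singleton_iff.1 g.2)
    intro y hy
    have hyC : y ∈ CZ z := Subgroup.mem_centralizer_singleton_iff.2 (h.comm_z y hy)
    exact (hno ⟨y, hyC⟩ hy).imp (congrArg Subtype.val) (congrArg Subtype.val))
  exact ⟨_, _, congrArg Subtype.val e'⟩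

/-- the involution `z` -/
theorem isC_z [Finite Q] (h : Large Q z) (hcard : 2 < Nat.card Q) : IsC z := by
  have hno : ∃ x ∈ Q, ∃ y ∈ Q, x * y ≠ y * x := by
    by_contra hcon
    push Not at hcon
    have h1 : ∀ x : Q, (x : K) = 1 ∨ (x : K) = z := fun x => h.cent x x.2 fun y hy => hcon x x.2 y hy
    classical
    have h2 : Nat.card Q ≤ Nat.card Bool := by
      refine Nat.card_le_card_of_injective (fun x => decide ((x : K) = 1)) ?_
      intro x y hxy
      have h3 : ((x : K) = 1) ↔ ((y : K) = 1) := by simpa using hxy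
      apply Subtype.ext
      rcases h1 x with hx | hx
      · rw [hx, h3.1 hx]
      · rcases h1 y with hy | hy
        · rw [hy, h3.2 hy]
        · rw [hx, hy]
    have h3 : Nat.card Bool = 2 := by simp
    omega
  obtain ⟨x, hx, y, hy, hxy⟩ := hno
  have h2 := (h.comm x hx y hy).resolve_left hxy
  refine ⟨x, y, ?_⟩
  have h3 := h.comm_z x⁻¹ (Q.inv_mem hx)
  have h4 := h.comm_z y⁻¹ (Q.inv_mem hy)
  calc z = y * x * x⁻¹ * y⁻¹ * z := by group
    _ = y * x * x⁻¹ * (y⁻¹ * z) := by group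
    _ = y * x * x⁻¹ * (z * y⁻¹) := by rw [h4]
    _ = y * x * (x⁻¹ * z) * y⁻¹ := by group
    _ = y * x * (z * x⁻¹) * y⁻¹ := by rw [h3]
    _ = (y * x * z) * x⁻¹ * y⁻¹ := by group
    _ = x * y * x⁻¹ * y⁻¹ := by rw [← h2]

/-- **Elements of `Q`.** -/
theorem isC_in [Finite Q] (h : Large Q z) (hs : Function.Surjective π) (hk : ∀ c, π c = 1 ↔ (c : K) ∈ Q)
    {r n : ℕ} (hr : r.Prime) (hodd : Odd r) (hcard : Nat.card Q = 2 ^ (n + 1)) (hn : 0 < n) (har : Ar r n)
    {y : L} (hyr : orderOf y = r) {q : K} (hq : q ∈ Q) : IsC q := by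
  have hE := es_of_large h
  have hfin : Finite (Q.subgroupOf (CZ z)) := finQ
  by_cases h1 : q = 1
  · rw [h1]; exact isC_one
  by_cases hz : q = z
  · rw [hz]
    refine isC_z h ?_
    rw [hcard]
    calc 2 = 2 ^ 1 := rfl
      _ < 2 ^ (n + 1) := Nat.pow_lt_pow_right (by norm_num) (by omega)
  · obtain ⟨a, rfl⟩ := hs y
    have hd1 : ((a ^ r : CZ z) : K) ∈ Q := by
      rw [← hk, map_pow, ← hyr, pow_orderOf_eq_one]
    have hd2 : (a : K) ∉ Q := by
      intro hdQ
      rw [← hk] at hdQ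
      rw [hdQ, orderOf_one] at hyr
      exact hr.one_lt.ne hyr
    have hqC : q ∈ CZ z := Subgroup.mem_centralizer_singleton_iff.2 (h.comm_z q hq)
    have h2 : IsComm (⟨q, hqC⟩ : CZ z) := by
      apply hE.isComm_of_mem (a := a) (q := ⟨q, hqC⟩)
      · intro x hx hxa
        have hxQ : (x : K) ∈ Q := hx
        have h3 := fpf h hr hodd hcard har hd1 hd2
          (act_fix h a (x := ⟨x, hxQ⟩) (hxa.imp (congrArg Subtype.val) (congrArg Subtype.val)))
        exact (h.pr_eq_zero.1 h3).imp (fun e => Subtype.ext e) (fun e => Subtype.ext e)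
      · exact hq
      · rintro (e | e)
        · exact h1 (congrArg Subtype.val e)
        · exact hz (congrArg Subtype.val e)
    exact h2.map (CZ z).subtype

/-- **All elements of `C(z)`.** -/
theorem isC_cent [Finite Q] (h : Large Q z) (hs : Function.Surjective π) (hk : ∀ c, π c = 1 ↔ (c : K) ∈ Q)
    {r n : ℕ} (hr : r.Prime) (hodd : Odd r) (hcard : Nat.card Q = 2 ^ (n + 1)) (hn : 0 < n) (har : Ar r n)
    (hy : ∃ y : L, orderOf y = r) (g : CZ z)
    (hO : π g ≠ 1 → ∃ a b : L, π g = a * b * a⁻¹ * b⁻¹ ∧ ∃ y ∈ Subgroup.closure ({a, b} : Set L), orderOf y = r) :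
    IsC (g : K) := by
  by_cases h1 : π g = 1
  · obtain ⟨y, hy⟩ := hy
    exact isC_in h hs hk hr hodd hcard hn har hy ((hk g).1 h1)
  · obtain ⟨a, b, e, y, hy, hyr⟩ := hO h1
    exact isC_out h hs hk hr hodd hcard har h1 e hy hyr

/-- **The 2-elements.** -/
theorem isC_two [Finite K] (h : Large Q z) (hs : Function.Surjective π) (hk : ∀ c, π c = 1 ↔ (c : K) ∈ Q)
    {r n : ℕ} (hr : r.Prime) (hodd : Odd r) (hcard : Nat.card Q = 2 ^ (n + 1)) (hn : 0 < n) (har : Ar r n)
    (hy : ∃ y : L, orderOf y = r) (hi : Odd (CZ z).index)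
    (hO : ∀ l : L, l ≠ 1 → (∃ k : ℕ, orderOf l = 2 ^ k) → ∃ a b : L, l = a * b * a⁻¹ * b⁻¹ ∧
      ∃ y ∈ Subgroup.closure ({a, b} : Set L), orderOf y = r) {g : K} (hg : ∃ k : ℕ, orderOf g = 2 ^ k) : IsC g := by
  obtain ⟨u, hu⟩ := exists_conj_mem hi hg
  refine IsC.of_conj u ?_
  refine isC_cent h hs hk hr hodd hcard hn har hy ⟨u * g * u⁻¹, hu⟩ fun h1 => hO _ h1 ?_
  obtain ⟨k, hk'⟩ := hg
  have ho : orderOf (⟨u * g * u⁻¹, hu⟩ : CZ z) = 2 ^ k := by
    rw [← Subgroup.orderOf_coe, ← hk']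
    show orderOf (u * g * u⁻¹) = orderOf g
    rw [show u * g * u⁻¹ = MulAut.conj u g from rfl, MulEquiv.orderOf_eq]
  have h2 : orderOf (π ⟨u * g * u⁻¹, hu⟩) ∣ 2 ^ k := by rw [← ho]; exact orderOf_map_dvd π _
  obtain ⟨j, -, hj⟩ := (Nat.dvd_prime_pow Nat.prime_two).1 h2
  exact ⟨j, hj⟩

end

end Cfsg.Agent.H903.Ore.Large
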